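/-
The average size of the fixed subgroup of the elements of a solvable group of automorphisms,
of order prime to the abelian group acted on, without common fixed point, is at most a square root.
-/
import Mathlib
import Cfsg.Agent.S1545

set_option autoImplicit false
set_option linter.unusedSectionVars false
set_option linter.style.haveILetI false

open Finset
open scoped Pointwise

namespace H10.Prim

universe u

variable {W : Type u} [CommGroup W]

/-- The fixed points of one automorphism. -/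
def cfix (h : MulAut W) : Subgroup W where
  carrier := {w | h w = w}
  one_mem' := map_one h
  mul_mem' := fun {a b} ha hb => by
    show h (a * b) = a * b
    rw [map_mul, show h a = a from ha, show h b = b from hb]
  inv_mem' := fun {a} ha => by
    show h a⁻¹ = a⁻¹
    rw [map_inv, show h a = a from ha]

theorem mem_cfix {h : MulAut W} {w : W} : w ∈ cfix h ↔ h w = w := Iff.rfl

/-- The fixed points of a set of automorphisms. -/
def sfix (N : Subgroup (MulAut W)) : Subgroup W := ⨅ n : N, cfix (n : MulAut W)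

theorem mem_sfix {N : Subgroup (MulAut W)} {w : W} : w ∈ sfix N ↔ ∀ n ∈ N, n w = w := by
  simp [sfix, Subgroup.mem_iInf, mem_cfix]

/-- `A` is carried into itself by every element of `N`. -/
def Inv (N : Subgroup (MulAut W)) (A : Subgroup W) : Prop := ∀ n ∈ N, ∀ a ∈ A, n a ∈ A

variable [Finite W]

theorem mul_card_le {X Y A : Subgroup W} (hX : X ≤ A) (hY : Y ≤ A) (h : X ⊓ Y = ⊥) :
    Nat.card X * Nat.card Y ≤ Nat.card A := by
  rw [← Nat.card_prod]
  refine Nat.card_le_card_of_injective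
    (fun z : X × Y => (⟨(z.1 : W) * z.2, mul_mem (hX z.1.2) (hY z.2.2)⟩ : A)) ?_
  intro z w e
  have e' : (z.1 : W) * z.2 = w.1 * w.2 := congrArg Subtype.val e
  have h1 : (w.1 : W)⁻¹ * z.1 = w.2 * (z.2 : W)⁻¹ := by
    rw [inv_mul_eq_iff_eq_mul, ← mul_assoc, ← e', mul_inv_cancel_right]
  have h2 : (w.1 : W)⁻¹ * z.1 = 1 := by
    have : (w.1 : W)⁻¹ * z.1 ∈ X ⊓ Y :=
      Subgroup.mem_inf.mpr ⟨mul_mem (inv_mem w.1.2) z.1.2, h1 ▸ mul_mem w.2.2 (inv_mem z.2.2)⟩
    rwa [h, Subgroup.mem_bot] at this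
  have h3 : (w.2 : W) * (z.2 : W)⁻¹ = 1 := h1 ▸ h2
  exact Prod.ext (Subtype.ext (inv_mul_eq_one.mp h2).symm) (Subtype.ext (mul_inv_eq_one.mp h3).symm)

section Split

variable (N₁ : Subgroup (MulAut W)) [Fintype N₁]

/-- The product over a finite group of automorphisms. -/
noncomputable def tr : W →* W := ∏ n : N₁, (n : MulAut W).toMonoidHom

theorem tr_apply (x : W) : tr N₁ x = ∏ n : N₁, (n : MulAut W) x := by
  simp [tr, MonoidHom.finsetProd_apply]

theorem apply_tr {g : MulAut W} (hg : g ∈ Subgroup.normalizer (N₁ : Set (MulAut W))) (x : W) :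
    g (tr N₁ x) = tr N₁ (g x) := by
  rw [tr_apply, tr_apply, map_prod]
  let e : N₁ ≃ N₁ :=
    { toFun := fun n => ⟨g * n * g⁻¹, (Subgroup.mem_normalizer_iff.mp hg n).mp n.2⟩
      invFun := fun n => ⟨g⁻¹ * n * g, (Subgroup.mem_normalizer_iff.mp hg _).mpr (by
        simp [mul_assoc])⟩
      left_inv := fun n => Subtype.ext (by simp [mul_assoc])
      right_inv := fun n => Subtype.ext (by simp [mul_assoc]) }
  refine Fintype.prod_equiv e _ _ fun n => ?_
  show g ((n : MulAut W) x) = (g * n * g⁻¹) (g x)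
  simp [MulAut.mul_apply]

theorem tr_mem_sfix (x : W) : tr N₁ x ∈ sfix N₁ := by
  rw [mem_sfix]
  intro m hm
  rw [tr_apply, map_prod]
  exact Fintype.prod_equiv (Equiv.mulLeft (⟨m, hm⟩ : N₁)) _ _ fun n => by simp [MulAut.mul_apply]

theorem tr_of_fixed {x : W} (h : x ∈ sfix N₁) : tr N₁ x = x ^ Nat.card N₁ := by
  rw [tr_apply, Finset.prod_congr rfl (fun (n : N₁) _ => mem_sfix.mp h n n.2), Finset.prod_const,
    Finset.card_univ, Nat.card_eq_fintype_card]

variable (hcop : (Nat.card W).Coprime (Nat.card N₁))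
include hcop

theorem split_disjoint {A : Subgroup W} : A ⊓ sfix N₁ ⊓ (tr N₁).ker = ⊥ := by
  rw [eq_bot_iff]
  rintro x ⟨⟨-, hx⟩, hk⟩
  have hk' : tr N₁ x = 1 := hk
  rw [tr_of_fixed N₁ hx] at hk'
  rw [Subgroup.mem_bot, ← orderOf_eq_one_iff]
  exact Nat.eq_one_of_dvd_coprimes hcop (orderOf_dvd_natCard x) (orderOf_dvd_of_pow_eq_one hk')

theorem split_fix (h : MulAut W) (hh : h ∈ Subgroup.normalizer (N₁ : Set (MulAut W))) (A : Subgroup W)
    (hA : Inv N₁ A) :
    Nat.card (A ⊓ cfix h : Subgroup W) =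
      Nat.card (A ⊓ sfix N₁ ⊓ cfix h : Subgroup W) * Nat.card (A ⊓ (tr N₁).ker ⊓ cfix h : Subgroup W) := by
  refine le_antisymm ?_ (mul_card_le (inf_le_inf_right _ inf_le_left) (inf_le_inf_right _ inf_le_left)
    (eq_bot_iff.mpr fun x hx => (split_disjoint N₁ hcop (A := A)).le ⟨hx.1.1, hx.2.1.2⟩))
  rw [← Nat.card_prod]
  -- the unique `k`-th root
  obtain ⟨r, hr⟩ : ∃ r : ℕ, ∀ y : W, (y ^ r) ^ Nat.card N₁ = y := by
    refine ⟨(Nat.card N₁).gcdA (Nat.card W) |> fun z => (z % (Nat.card W : ℤ)).toNat, fun y => ?_⟩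
    have hb : ((Nat.card N₁).gcd (Nat.card W) : ℤ) =
        (Nat.card N₁ : ℤ) * (Nat.card N₁).gcdA (Nat.card W) +
          (Nat.card W : ℤ) * (Nat.card N₁).gcdB (Nat.card W) := Nat.gcd_eq_gcd_ab _ _
    rw [Nat.Coprime.gcd_eq_one hcop.symm] at hb
    rw [← zpow_natCast, ← zpow_natCast, ← zpow_mul,
      Int.toNat_of_nonneg (Int.emod_nonneg _ (by exact_mod_cast (Nat.card_pos (α := W)).ne'))]
    conv_rhs => rw [← zpow_one y]
    have hy : y ^ (Nat.card W : ℤ) = 1 := by rw [zpow_natCast, pow_card_eq_one']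
    have h2 : (Nat.card N₁).gcdA (Nat.card W) % (Nat.card W : ℤ) * (Nat.card N₁ : ℤ) = 1 +
        (Nat.card W : ℤ) * (-(Nat.card N₁).gcdB (Nat.card W) -
          (Nat.card N₁).gcdA (Nat.card W) / (Nat.card W : ℤ) * (Nat.card N₁ : ℤ)) := by
      rw [Int.emod_def]
      push_cast at hb
      linear_combination -hb
    rw [h2, zpow_add, zpow_mul, hy, one_zpow, mul_one]
  have key : ∀ x ∈ A ⊓ cfix h, tr N₁ x ^ r ∈ A ⊓ sfix N₁ ⊓ cfix h ∧
      (tr N₁ x ^ r)⁻¹ * x ∈ A ⊓ (tr N₁).ker ⊓ cfix h := by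
    rintro x ⟨hxA, hxh⟩
    have h1 : tr N₁ x ∈ A := by
      rw [tr_apply]; exact Subgroup.prod_mem _ fun n _ => hA n n.2 x hxA
    have h3 : tr N₁ x ∈ cfix h := by
      rw [mem_cfix, apply_tr N₁ hh, mem_cfix.mp hxh]
    have h4 : tr N₁ x ^ r ∈ A ⊓ sfix N₁ ⊓ cfix h :=
      pow_mem (Subgroup.mem_inf.mpr ⟨Subgroup.mem_inf.mpr ⟨h1, tr_mem_sfix N₁ x⟩, h3⟩) r
    refine ⟨h4, Subgroup.mem_inf.mpr ⟨Subgroup.mem_inf.mpr
      ⟨mul_mem (inv_mem (show tr N₁ x ^ r ∈ A from h4.1.1)) hxA, ?_⟩,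
      mul_mem (inv_mem (show tr N₁ x ^ r ∈ cfix h from h4.2)) hxh⟩⟩
    show tr N₁ ((tr N₁ x ^ r)⁻¹ * x) = 1
    rw [map_mul, map_inv, tr_of_fixed N₁ h4.1.2, hr, inv_mul_cancel]
  refine Nat.card_le_card_of_injective (fun x : (A ⊓ cfix h : Subgroup W) =>
    ((⟨tr N₁ (x : W) ^ r, (key x x.2).1⟩ : (A ⊓ sfix N₁ ⊓ cfix h : Subgroup W)),
      (⟨(tr N₁ (x : W) ^ r)⁻¹ * x, (key x x.2).2⟩ :
        (A ⊓ (tr N₁).ker ⊓ cfix h : Subgroup W)))) ?_
  intro x y e
  obtain ⟨e1, e2⟩ := Prod.ext_iff.mp e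
  have e1' : tr N₁ (x : W) ^ r = tr N₁ (y : W) ^ r := congrArg Subtype.val e1
  have e2' : (tr N₁ (x : W) ^ r)⁻¹ * x = (tr N₁ (y : W) ^ r)⁻¹ * y := congrArg Subtype.val e2
  rw [e1'] at e2'
  exact Subtype.ext (mul_left_cancel e2')

theorem split_card {A : Subgroup W} (hA : Inv N₁ A) :
    Nat.card A = Nat.card (A ⊓ sfix N₁ : Subgroup W) * Nat.card (A ⊓ (tr N₁).ker : Subgroup W) := by
  have h := split_fix N₁ hcop 1 (one_mem _) A hA
  have e : cfix (1 : MulAut W) = ⊤ := eq_top_iff.mpr fun x _ => rfl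
  simpa [e] using h

end Split

theorem inv_sfix {N₁ N : Subgroup (MulAut W)} {A : Subgroup W}
    (hn : N ≤ Subgroup.normalizer (N₁ : Set (MulAut W))) (hA : Inv N A) :
    Inv N (A ⊓ sfix N₁) := by
  rintro n hnN a ⟨ha, hf⟩
  refine ⟨hA n hnN a ha, mem_sfix.mpr fun m hm => ?_⟩
  have h1 : (n⁻¹ * m * n) a = a := mem_sfix.mp hf _ (by
    simpa using (Subgroup.mem_normalizer_iff.mp (inv_mem (hn hnN)) m).mp hm)
  have := congrArg n h1
  simpa [MulAut.mul_apply] using this

theorem inv_ker {N₁ N : Subgroup (MulAut W)} [Fintype N₁] {A : Subgroup W}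
    (hn : N ≤ Subgroup.normalizer (N₁ : Set (MulAut W))) (hA : Inv N A) :
    Inv N (A ⊓ (tr N₁).ker) := by
  rintro n hnN a ⟨ha, hk⟩
  refine ⟨hA n hnN a ha, ?_⟩
  show tr N₁ (n a) = 1
  rw [← apply_tr N₁ (hn hnN), show tr N₁ a = 1 from hk, map_one]

/-- The product over `g N` of the squares of the fixed-point numbers in `A`. -/
noncomputable def prodFix (g : MulAut W) (N : Subgroup (MulAut W)) [Fintype N] (A : Subgroup W) :
    ℕ := ∏ n : N, Nat.card (A ⊓ cfix (g * n) : Subgroup W) ^ 2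

theorem prodFix_split {g : MulAut W} {N : Subgroup (MulAut W)} [Fintype N] {A : Subgroup W}
    (N₁ : Subgroup (MulAut W)) [Fintype N₁] (hcop : (Nat.card W).Coprime (Nat.card N₁))
    (hg : g ∈ Subgroup.normalizer (N₁ : Set (MulAut W)))
    (hn : N ≤ Subgroup.normalizer (N₁ : Set (MulAut W))) (hA : Inv N₁ A) :
    prodFix g N A = prodFix g N (A ⊓ sfix N₁) * prodFix g N (A ⊓ (tr N₁).ker) := by
  rw [prodFix, prodFix, prodFix, ← Finset.prod_mul_distrib]
  refine Finset.prod_congr rfl fun n _ => ?_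
  rw [← mul_pow, ← split_fix N₁ hcop (g * n) (mul_mem hg (hn n.2)) A hA]

/-- Two elements differing by one without fixed points. -/
theorem prodFix_pair {g : MulAut W} {N : Subgroup (MulAut W)} [Fintype N] {A : Subgroup W}
    (n₀ : N) (h0 : A ⊓ cfix (n₀ : MulAut W) = ⊥) : prodFix g N A ≤ Nat.card A ^ Nat.card N := by
  have h1 : (∏ n : N, Nat.card (A ⊓ cfix (g * n) : Subgroup W)) =
      ∏ n : N, Nat.card (A ⊓ cfix (g * ((n * n₀ : N) : MulAut W)) : Subgroup W) :=
    (Fintype.prod_equiv (Equiv.mulRight n₀) _ _ fun n => rfl).symm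
  have h2 : prodFix g N A = ∏ n : N, Nat.card (A ⊓ cfix (g * n) : Subgroup W) *
      Nat.card (A ⊓ cfix (g * ((n * n₀ : N) : MulAut W)) : Subgroup W) := by
    rw [Finset.prod_mul_distrib, ← h1, ← sq, ← Finset.prod_pow]
    rfl
  rw [h2, Nat.card_eq_fintype_card (α := N), ← Finset.card_univ, ← Finset.prod_const]
  refine Finset.prod_le_prod' fun n _ => mul_card_le inf_le_left inf_le_left (eq_bot_iff.mpr ?_)
  rintro x ⟨⟨hx, h3⟩, -, h4⟩
  rw [← h0]
  refine ⟨hx, ?_⟩
  have h5 : (g * n) ((n₀ : MulAut W) x) = (g * n) x := by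
    rw [mem_cfix.mp h3]
    simpa [MulAut.mul_apply] using mem_cfix.mp h4
  exact (g * n).injective h5

/-- The product over `N` is bounded when all products over cosets of a subgroup are. -/
theorem prodFix_coset {g : MulAut W} {N N₁ : Subgroup (MulAut W)} [Fintype N] [Fintype N₁]
    {A : Subgroup W} (hle : N₁ ≤ N)
    (h : ∀ n : N, prodFix (g * (n : MulAut W)) N₁ A ≤ Nat.card A ^ Nat.card N₁) :
    prodFix g N A ≤ Nat.card A ^ Nat.card N := by
  refine (Nat.pow_le_pow_iff_left (Nat.card_pos (α := N₁)).ne').mp ?_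
  have h1 : prodFix g N A ^ Nat.card N₁ = ∏ n : N, prodFix (g * (n : MulAut W)) N₁ A := by
    have : ∀ m : N₁, prodFix g N A =
        ∏ n : N, Nat.card (A ⊓ cfix (g * (n : MulAut W) * m) : Subgroup W) ^ 2 := fun m =>
      (Fintype.prod_equiv (Equiv.mulRight (⟨m, hle m.2⟩ : N)) _ _ fun n => by
        simp [mul_assoc]).symm
    calc prodFix g N A ^ Nat.card N₁ = ∏ _m : N₁, prodFix g N A := by
          rw [Finset.prod_const, Finset.card_univ, Nat.card_eq_fintype_card]
      _ = ∏ m : N₁, ∏ n : N, Nat.card (A ⊓ cfix (g * (n : MulAut W) * m) : Subgroup W) ^ 2 :=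
          Finset.prod_congr rfl fun m _ => this m
      _ = _ := Finset.prod_comm
  rw [h1]
  calc ∏ n : N, prodFix (g * (n : MulAut W)) N₁ A ≤ ∏ _n : N, Nat.card A ^ Nat.card N₁ :=
        Finset.prod_le_prod' fun n _ => h n
    _ = _ := by
      rw [Finset.prod_const, Finset.card_univ, ← pow_mul, ← pow_mul, Nat.card_eq_fintype_card (α := N),
        mul_comm]

omit [Finite W] in
theorem comm_of_commutator {g n : MulAut W} {A : Subgroup W} (hg : ∀ a ∈ A, g a ∈ A)
    (hn : ∀ a ∈ A, n a ∈ A) (h : ∀ a ∈ A, (g * n * g⁻¹ * n⁻¹) a = a) (a : W) (ha : a ∈ A) :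
    g (n a) = n (g a) := by
  have := h (n (g a)) (hn _ (hg _ ha))
  simpa [MulAut.mul_apply] using this

/-- A Frobenius pair of automorphisms has at most a square root of fixed points. -/
theorem sq_fix_le {N : Subgroup (MulAut W)} {τ : MulAut W} {A : Subgroup W}
    (hτN : τ ∈ Subgroup.normalizer (N : Set (MulAut W))) (hNA : Inv N A) (hτA : ∀ a ∈ A, τ a ∈ A)
    (hcop : (Nat.card W).Coprime (Nat.card N)) {s : ℕ} (hs : s.Prime)
    (hsW : s.Coprime (Nat.card W)) (hτs : ∀ a ∈ A, (τ ^ s) a = a)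
    (hfix : A ⊓ sfix N = ⊥)
    (hfpf : ∀ n ∈ N, (∀ a ∈ A, τ (n a) = n (τ a)) → ∀ a ∈ A, n a = a) :
    Nat.card (A ⊓ cfix τ : Subgroup W) ^ 2 ≤ Nat.card A := by
  classical
  by_cases hA : A = ⊥
  · simp [hA]
  let res : ∀ h : MulAut W, (∀ a, h a ∈ A ↔ a ∈ A) → MulAut A := fun h hh =>
    { toFun := fun a => ⟨h a, (hh a).mpr a.2⟩
      invFun := fun a => ⟨h⁻¹ a, (hh _).mp (by simp)⟩
      left_inv := fun a => Subtype.ext (by simp)
      right_inv := fun a => Subtype.ext (by simp)
      map_mul' := fun a b => Subtype.ext (by simp) }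
  let St : Subgroup (MulAut W) :=
    { carrier := {h | ∀ a, h a ∈ A ↔ a ∈ A}
      one_mem' := fun a => Iff.rfl
      mul_mem' := fun {x y} hx hy a => (hx _).trans (hy a)
      inv_mem' := fun {x} hx a => by rw [← hx]; simp }
  have mk : ∀ h : MulAut W, (∀ a ∈ A, h a ∈ A) → h ∈ St := by
    intro h hh a
    refine ⟨fun ha => ?_, hh a⟩
    let f : A → A := fun a => ⟨h a, hh a a.2⟩
    have hf : Function.Injective f := fun x y e =>
      Subtype.ext (h.injective (congrArg Subtype.val e))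
    obtain ⟨b, hb⟩ := (Finite.injective_iff_surjective.mp hf) ⟨h a, ha⟩
    rw [← h.injective (congrArg Subtype.val hb)]
    exact b.2
  let φ : St →* MulAut A :=
    { toFun := fun h => res h h.2
      map_one' := rfl
      map_mul' := fun x y => rfl }
  have hN : N ≤ St := fun n hn => mk n fun a ha => hNA n hn a ha
  have hτ : τ ∈ St := mk τ hτA
  let ι : MulAut A →* SemidirectProduct A (MulAut A) (MonoidHom.id _) := SemidirectProduct.inr
  have hι : Function.Injective ι := SemidirectProduct.inr_injective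
  have htriv : ∀ {h : St}, φ h = 1 ↔ ∀ a ∈ A, (h : MulAut W) a = a := by
    intro h
    refine ⟨fun e a ha => congrArg Subtype.val (DFunLike.congr_fun e ⟨a, ha⟩),
      fun e => MulEquiv.ext fun a => Subtype.ext (e a a.2)⟩
  set U₀ : Subgroup (MulAut A) := (N.subgroupOf St).map φ with hU₀
  set E₀ : Subgroup (MulAut A) := Subgroup.zpowers (φ ⟨τ, hτ⟩) with hE₀
  have hU₀ne : U₀ ≠ ⊥ := by
    intro e
    refine hA (le_bot_iff.mp (hfix ▸ le_inf le_rfl fun a ha => mem_sfix.mpr fun n hn => ?_))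
    have : φ ⟨n, hN hn⟩ ∈ U₀ := ⟨⟨n, hN hn⟩, hn, rfl⟩
    rw [e, Subgroup.mem_bot] at this
    exact htriv.mp this a ha
  have hτne : φ ⟨τ, hτ⟩ ≠ 1 := by
    intro e
    refine hA (le_bot_iff.mp (hfix ▸ le_inf le_rfl fun a ha => mem_sfix.mpr fun n hn => ?_))
    refine hfpf n hn (fun b hb => ?_) a ha
    rw [htriv.mp e b hb, htriv.mp e _ (hNA n hn b hb)]
  have hτs' : φ ⟨τ, hτ⟩ ^ s = 1 := by
    rw [← map_pow]; exact htriv.mpr fun a ha => by simpa using hτs a ha
  have hord : orderOf (φ ⟨τ, hτ⟩) = s := by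
    haveI := Fact.mk hs
    exact orderOf_eq_prime hτs' hτne
  have hEc : Nat.card E₀ = s := by rw [hE₀, Nat.card_zpowers, hord]
  have hfp : ∀ e ∈ E₀, e ≠ 1 → ∀ x ∈ U₀, e * x = x * e → x = 1 := by
    rintro e he he1 _ ⟨⟨n, hnS⟩, hn, rfl⟩ hcomm
    refine htriv.mpr fun a ha => hfpf n (Subgroup.mem_subgroupOf.mp hn) ?_ a ha
    -- the prime order group is generated by `e`
    have hgen : φ ⟨τ, hτ⟩ ∈ Subgroup.zpowers e := by
      haveI := Fact.mk hs
      have := mem_zpowers_of_prime_card (G := E₀) (p := s) hEc (g := ⟨e, he⟩)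
        (g' := ⟨φ ⟨τ, hτ⟩, Subgroup.mem_zpowers _⟩) (fun h => he1 (congrArg Subtype.val h))
      obtain ⟨i, hi⟩ := Subgroup.mem_zpowers_iff.mp this
      exact Subgroup.mem_zpowers_iff.mpr ⟨i, by simpa using congrArg Subtype.val hi⟩
    obtain ⟨i, hi⟩ := Subgroup.mem_zpowers_iff.mp hgen
    have hc : Commute (φ ⟨τ, hτ⟩) (φ ⟨n, hnS⟩) := by
      rw [← hi]
      exact (show Commute e (φ ⟨n, hnS⟩) from hcomm).zpow_left i
    intro b hb
    exact congrArg Subtype.val (DFunLike.congr_fun hc.eq ⟨b, hb⟩)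
  have hUn : ∀ e ∈ E₀, ∀ x ∈ U₀, e * x * e⁻¹ ∈ U₀ := by
    have : φ ⟨τ, hτ⟩ ∈ Subgroup.normalizer (U₀ : Set (MulAut A)) := by
      refine Subgroup.le_normalizer_map φ ⟨⟨τ, hτ⟩, ?_, rfl⟩
      rw [SetLike.mem_coe, Subgroup.mem_normalizer_iff]
      intro x
      simp only [Subgroup.mem_subgroupOf]
      exact Subgroup.mem_normalizer_iff.mp hτN x
    intro e he x hx
    exact (Subgroup.mem_normalizer_iff.mp
      ((Subgroup.zpowers_le.mpr this : E₀ ≤ _) he) x).mp hx
  have hUE₀ : U₀ ⊓ E₀ = ⊥ := by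
    rw [eq_bot_iff]
    rintro x ⟨hxU, hxE⟩
    by_contra hx1
    exact hx1 (Subgroup.mem_bot.mpr (hfp x hxE (fun e => hx1 (Subgroup.mem_bot.mpr e)) x hxU rfl))
  have hE₀ne : E₀ ≠ ⊥ := fun e => hτne (Subgroup.zpowers_eq_bot.mp e)
  set U := U₀.map ι
  set E := E₀.map ι
  set H : Subgroup (SemidirectProduct A (MulAut A) (MonoidHom.id _)) :=
    (SemidirectProduct.inl : A →* _).range
  have hHn : ∀ x ∈ U ⊔ E, ∀ h ∈ H, x * h * x⁻¹ ∈ H := by
    rintro x hx _ ⟨a, rfl⟩
    rw [← Subgroup.map_sup] at hx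
    obtain ⟨m, -, rfl⟩ := hx
    exact ⟨m a, (SemidirectProduct.inl_aut m a).trans (by simp [ι])⟩
  have hdisj : H ⊓ (U ⊔ E) = ⊥ := by
    rw [eq_bot_iff, ← Subgroup.map_sup]
    rintro _ ⟨⟨a, rfl⟩, m, -, hm⟩
    have := congrArg SemidirectProduct.left hm
    simp only [ι, SemidirectProduct.left_inr, SemidirectProduct.left_inl] at this
    rw [← this]
    exact Subgroup.mem_bot.mpr (map_one _)
  have hHc : Nat.card H = Nat.card A :=
    Nat.card_congr (MonoidHom.ofInjective SemidirectProduct.inl_injective).toEquiv.symm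
  have hcop' : (Nat.card H).Coprime (Nat.card ↥(U ⊔ E)) := by
    rw [hHc, ← Subgroup.map_sup, Subgroup.card_map_of_injective hι]
    have hdvd : Nat.card ↥(U₀ ⊔ E₀) ∣ Nat.card U₀ * Nat.card E₀ := by
      have hnorm : E₀ ≤ Subgroup.normalizer (U₀ : Set (MulAut A)) := by
        intro e he
        rw [Subgroup.mem_normalizer_iff]
        intro x
        refine ⟨fun hx => hUn e he x hx, fun hx => ?_⟩
        simpa [mul_assoc] using hUn e⁻¹ (inv_mem he) _ hx
      rw [← Nat.card_prod, sup_comm]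
      refine dvd_of_eq ?_
      symm
      refine Nat.card_eq_of_bijective (fun z : U₀ × E₀ => (⟨(z.2 : MulAut A) * z.1,
        mul_mem (Subgroup.mem_sup_left z.2.2) (Subgroup.mem_sup_right z.1.2)⟩ : ↥(E₀ ⊔ U₀))) ⟨?_, ?_⟩
      · intro z w e
        have e' : (z.2 : MulAut A) * z.1 = w.2 * w.1 := congrArg Subtype.val e
        have h1 : (w.2 : MulAut A)⁻¹ * z.2 = w.1 * (z.1 : MulAut A)⁻¹ := by
          rw [inv_mul_eq_iff_eq_mul, ← mul_assoc, ← e', mul_inv_cancel_right]
        have h2 : (w.2 : MulAut A)⁻¹ * z.2 ∈ U₀ ⊓ E₀ :=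
          Subgroup.mem_inf.mpr ⟨h1 ▸ mul_mem w.1.2 (inv_mem z.1.2), mul_mem (inv_mem w.2.2) z.2.2⟩
        rw [hUE₀, Subgroup.mem_bot] at h2
        exact Prod.ext (Subtype.ext (mul_inv_eq_one.mp (h1 ▸ h2)).symm)
          (Subtype.ext (inv_mul_eq_one.mp h2).symm)
      · rintro ⟨x, hx⟩
        have hx' : x ∈ ((E₀ : Set (MulAut A)) * (U₀ : Set (MulAut A))) := by
          rw [← Subgroup.coe_mul_of_left_le_normalizer_right _ _ hnorm]; exact hx
        obtain ⟨e, he, w, hw, rfl⟩ := hx'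
        exact ⟨(⟨w, hw⟩, ⟨e, he⟩), rfl⟩
    refine Nat.Coprime.coprime_dvd_right hdvd ?_
    have hAW : Nat.card A ∣ Nat.card W := Subgroup.card_subgroup_dvd_card A
    refine Nat.Coprime.mul_right ?_ (hEc ▸ Nat.Coprime.coprime_dvd_left hAW hsW.symm)
    refine Nat.Coprime.coprime_dvd_left hAW (Nat.Coprime.coprime_dvd_right ?_ hcop)
    exact (Subgroup.card_map_dvd _ φ).trans
      (dvd_of_eq (Nat.card_congr (Subgroup.subgroupOfEquivOfLe hN).toEquiv))
  haveI : Finite (SemidirectProduct A (MulAut A) (MonoidHom.id _)) :=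
    Finite.of_equiv _ SemidirectProduct.equivProd.symm
  have key := Cfsg.Agent.S1545.result U E H
    (fun e => hU₀ne ((Subgroup.map_eq_bot_iff_of_injective _ hι).mp e))
    (fun e => hE₀ne ((Subgroup.map_eq_bot_iff_of_injective _ hι).mp e))
    (by rw [← Subgroup.map_inf _ _ ι hι, hUE₀, Subgroup.map_bot])
    (by
      rintro _ ⟨e, he, rfl⟩ _ ⟨x, hx, rfl⟩
      exact ⟨e * x * e⁻¹, hUn e he x hx, by simp⟩)
    (by
      rintro _ ⟨e, he, rfl⟩ he1 _ ⟨x, hx, rfl⟩ hc
      rw [hfp e he (fun h => he1 (by rw [h, map_one])) x hx (hι (by simpa using hc)), map_one])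
    hHn hdisj
    (isSolvable_of_comm fun x y => by
      obtain ⟨_, a, rfl⟩ := x
      obtain ⟨_, b, rfl⟩ := y
      apply Subtype.ext
      show SemidirectProduct.inl a * SemidirectProduct.inl b =
        SemidirectProduct.inl b * SemidirectProduct.inl a
      rw [← map_mul, ← map_mul, mul_comm]) hcop'
  have hcU : H ⊓ Subgroup.centralizer (U : Set _) = ⊥ := by
    rw [eq_bot_iff]
    rintro _ ⟨⟨a, rfl⟩, hc⟩
    suffices h : (a : W) ∈ A ⊓ sfix N by
      rw [hfix, Subgroup.mem_bot] at h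
      rw [Subtype.ext h (a2 := (1 : A)), map_one]
      exact one_mem _
    refine ⟨a.2, mem_sfix.mpr fun n hn => ?_⟩
    have h1 := Subgroup.mem_centralizer_iff.mp hc (ι (φ ⟨n, hN hn⟩))
      ⟨_, ⟨⟨n, hN hn⟩, hn, rfl⟩, rfl⟩
    have h2 : φ ⟨n, hN hn⟩ a = a := by
      have h3 := congrArg SemidirectProduct.left h1
      simpa [ι] using h3
    exact congrArg Subtype.val h2
  have hcUE : H ⊓ Subgroup.centralizer ((U ⊔ E : Subgroup _) : Set _) = ⊥ :=
    le_bot_iff.mp (hcU ▸ inf_le_inf_left _ (Subgroup.centralizer_le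
      (SetLike.coe_subset_coe.mpr le_sup_left)))
  rw [hcU, hcUE, Subgroup.card_bot, one_pow, one_mul, mul_one, hHc] at key
  have hcE : Nat.card E = s := by rw [Subgroup.card_map_of_injective hι, hEc]
  rw [key, hcE]
  refine le_trans (Nat.pow_le_pow_left ?_ 2) (Nat.pow_le_pow_right Nat.card_pos hs.two_le)
  refine Nat.card_le_card_of_injective (fun a : (A ⊓ cfix τ : Subgroup W) =>
    (⟨SemidirectProduct.inl (⟨a, a.2.1⟩ : A), ⟨_, rfl⟩, ?_⟩ :
      (H ⊓ Subgroup.centralizer (E : Set _) : Subgroup _))) ?_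
  · refine Subgroup.mem_centralizer_iff.mpr ?_
    rintro _ ⟨e, he, rfl⟩
    have : e ⟨a, a.2.1⟩ = ⟨a, a.2.1⟩ := by
      let Stab : Subgroup (MulAut A) :=
        { carrier := {f | f ⟨a, a.2.1⟩ = ⟨a, a.2.1⟩}
          one_mem' := rfl
          mul_mem' := fun {f g} hf hg => by
            show f (g _) = _
            rw [show g _ = _ from hg]; exact hf
          inv_mem' := fun {f} hf => by
            show f⁻¹ _ = _
            conv_lhs => rw [← show f _ = _ from hf]
            simp }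
      exact (Subgroup.zpowers_le.mpr (show φ ⟨τ, hτ⟩ ∈ Stab from Subtype.ext a.2.2) : E₀ ≤ Stab) he
    ext <;> simp [ι, this]
  · intro a b e
    have := SemidirectProduct.inl_injective (congrArg Subtype.val e)
    exact Subtype.ext (congrArg (Subtype.val : A → W) this)

/-- The bound over one coset of an abelian group of automorphisms. -/
theorem prodFix_le : ∀ (m : ℕ) (g : MulAut W) (N : Subgroup (MulAut W)) [Fintype N] (A : Subgroup W),
    Nat.card A + Nat.card N ≤ m → g ∈ Subgroup.normalizer (N : Set (MulAut W)) → Inv N A →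
    (∀ a ∈ A, g a ∈ A) → (Nat.card W).Coprime (Nat.card N) →
    (Nat.card W).Coprime (orderOf g) → (∀ x ∈ N, ∀ y ∈ N, ∀ a ∈ A, x (y a) = y (x a)) →
    A ⊓ sfix N = ⊥ → prodFix g N A ≤ Nat.card A ^ Nat.card N := by
  intro m
  induction m with
  | zero =>
    intro g N _ A h
    exact absurd h (by have := Nat.card_pos (α := A); omega)
  | succ m ih =>
    intro g N _ A hcard hgN hNA hgA hcop hcopg hab hfix
    classical
    by_cases hA : A = ⊥
    · refine le_of_eq ?_
      subst hA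
      simp [prodFix]
    -- elements trivial on `A`
    let K₀ : Subgroup (MulAut W) :=
      { carrier := {x | x ∈ N ∧ ∀ a ∈ A, x a = a}
        one_mem' := ⟨one_mem _, fun a _ => rfl⟩
        mul_mem' := fun {x y} hx hy => ⟨mul_mem hx.1 hy.1, fun a ha => by
          rw [MulAut.mul_apply, hy.2 a ha, hx.2 a ha]⟩
        inv_mem' := fun {x} hx => ⟨inv_mem hx.1, fun a ha => by
          conv_lhs => rw [← hx.2 a ha]
          simp⟩ }
    have hgAi : ∀ a ∈ A, g⁻¹ a ∈ A := by
      intro a ha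
      let f : A → A := fun b => ⟨g b, hgA b b.2⟩
      have hf : Function.Injective f := fun x y e =>
        Subtype.ext (g.injective (congrArg Subtype.val e))
      obtain ⟨b, hb⟩ := (Finite.injective_iff_surjective.mp hf) ⟨a, ha⟩
      rw [← show g b = a from congrArg Subtype.val hb]
      simp
    -- splitting along a subgroup with fixed points
    have split : ∀ (N₁ : Subgroup (MulAut W)), N₁ ≤ N → g ∈ Subgroup.normalizer (N₁ : Set (MulAut W)) →
        N ≤ Subgroup.normalizer (N₁ : Set (MulAut W)) → A ⊓ sfix N₁ ≠ ⊥ → A ⊓ sfix N₁ ≠ A →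
        prodFix g N A ≤ Nat.card A ^ Nat.card N := by
      intro N₁ hle hg₁ hn₁ hne hneA
      haveI := Fintype.ofFinite N₁
      have hcop₁ : (Nat.card W).Coprime (Nat.card N₁) :=
        hcop.coprime_dvd_right (Subgroup.card_dvd_of_le hle)
      have hA₁ : Inv N₁ A := fun x hx => hNA x (hle hx)
      have hcA := split_card N₁ hcop₁ hA₁
      have h1 : 1 < Nat.card (A ⊓ sfix N₁ : Subgroup W) := (Subgroup.one_lt_card_iff_ne_bot _).mpr hne
      have h2 : 1 < Nat.card (A ⊓ (tr N₁).ker : Subgroup W) := by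
        rw [Subgroup.one_lt_card_iff_ne_bot]
        intro e
        rw [e, Subgroup.card_bot, mul_one] at hcA
        exact hneA (Subgroup.eq_of_le_of_card_ge inf_le_left hcA.le)
      have hz : Subgroup.zpowers g ≤ Subgroup.normalizer (N₁ : Set (MulAut W)) :=
        Subgroup.zpowers_le.mpr hg₁
      have hgz : Inv (Subgroup.zpowers g) A := by
        let St : Subgroup (MulAut W) :=
          { carrier := {x | (∀ a ∈ A, x a ∈ A) ∧ ∀ a ∈ A, x⁻¹ a ∈ A}
            one_mem' := ⟨fun a ha => ha, fun a ha => by simpa using ha⟩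
            mul_mem' := fun {x y} hx hy => ⟨fun a ha => hx.1 _ (hy.1 a ha), fun a ha => by
              simpa [MulAut.mul_apply] using hy.2 _ (hx.2 a ha)⟩
            inv_mem' := fun {x} hx => ⟨hx.2, fun a ha => by simpa using hx.1 a ha⟩ }
        intro x hx
        exact ((Subgroup.zpowers_le.mpr (show g ∈ St from ⟨hgA, hgAi⟩) : _ ≤ St) hx).1
      have hgm := Subgroup.mem_zpowers g
      rw [prodFix_split N₁ hcop₁ hg₁ hn₁ hA₁, hcA, mul_pow]
      refine Nat.mul_le_mul
        (ih g N _ ?_ hgN (inv_sfix hn₁ hNA) (inv_sfix hz hgz g hgm) hcop hcopg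
          (fun x hx y hy a ha => hab x hx y hy a ha.1) ?_)
        (ih g N _ ?_ hgN (inv_ker hn₁ hNA) (inv_ker hz hgz g hgm) hcop hcopg
          (fun x hx y hy a ha => hab x hx y hy a ha.1) ?_)
      · have := lt_mul_of_one_lt_right (by omega : 0 < Nat.card (A ⊓ sfix N₁ : Subgroup W)) h2
        omega
      · exact eq_bot_iff.mpr fun x hx => hfix.le ⟨hx.1.1, hx.2⟩
      · have := lt_mul_of_one_lt_left (by omega : 0 < Nat.card (A ⊓ (tr N₁).ker : Subgroup W)) h1
        omega
      · exact eq_bot_iff.mpr fun x hx => hfix.le ⟨hx.1.1, hx.2⟩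
    -- normal subgroups over the kernel
    have hnormN : ∀ N₁ : Subgroup (MulAut W), K₀ ≤ N₁ → N₁ ≤ N →
        N ≤ Subgroup.normalizer (N₁ : Set (MulAut W)) := by
      intro N₁ hK hle n hn
      have hcomm : ∀ x ∈ N, ∀ y ∈ N, x * y * x⁻¹ * y⁻¹ ∈ K₀ := fun x hx y hy =>
        ⟨mul_mem (mul_mem (mul_mem hx hy) (inv_mem hx)) (inv_mem hy), fun a ha => by
          have h1 := hab x hx y hy (x⁻¹ (y⁻¹ a)) (hNA _ (inv_mem hx) _ (hNA _ (inv_mem hy) _ ha))
          simpa [MulAut.mul_apply] using h1⟩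
      rw [Subgroup.mem_normalizer_iff]
      intro x
      refine ⟨fun hx => ?_, fun hx => ?_⟩
      · have := mul_mem (hK (hcomm n hn x (hle hx))) hx
        simpa [mul_assoc] using this
      · have := mul_mem (hK (hcomm n⁻¹ (inv_mem hn) _ (hle hx))) hx
        simpa [mul_assoc] using this
    -- an element commuting with `g` on `A`
    by_cases h0 : ∃ n ∈ N, n ∉ K₀ ∧ g * n * g⁻¹ * n⁻¹ ∈ K₀
    · obtain ⟨n₀, hn₀, hn₀K, hc⟩ := h0
      by_cases hb : A ⊓ cfix n₀ = ⊥
      · exact prodFix_pair ⟨n₀, hn₀⟩ hb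
      set N₁ := Subgroup.zpowers n₀ ⊔ K₀ with hN₁
      have hle : N₁ ≤ N := sup_le (Subgroup.zpowers_le.mpr hn₀) fun x hx => hx.1
      have hK₀inv : ∀ x, x ∈ K₀ → g * x * g⁻¹ ∈ K₀ := fun x hx =>
        ⟨(Subgroup.mem_normalizer_iff.mp hgN x).mp hx.1, fun a ha => by
          show g (x (g⁻¹ a)) = a
          rw [hx.2 _ (hgAi a ha), MulAut.apply_inv_self]⟩
      have hg₁ : g ∈ Subgroup.normalizer (N₁ : Set (MulAut W)) := by
        have h1 : N₁.map (MulAut.conj g).toMonoidHom ≤ N₁ := by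
          rw [hN₁, Subgroup.map_sup, MonoidHom.map_zpowers]
          refine sup_le (Subgroup.zpowers_le.mpr ?_) ?_
          · show g * n₀ * g⁻¹ ∈ N₁
            have := mul_mem (show g * n₀ * g⁻¹ * n₀⁻¹ ∈ N₁ from Subgroup.mem_sup_right hc)
              (show n₀ ∈ N₁ from Subgroup.mem_sup_left (Subgroup.mem_zpowers _))
            simpa [mul_assoc] using this
          · rintro _ ⟨x, hx, rfl⟩
            exact Subgroup.mem_sup_right (hK₀inv x hx)
        have h2 : N₁.map (MulAut.conj g).toMonoidHom = N₁ :=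
          Subgroup.eq_of_le_of_card_ge h1
            (Subgroup.card_map_of_injective (MulAut.conj g).injective).ge
        rw [Subgroup.mem_normalizer_iff]
        intro x
        conv_rhs => rw [← h2]
        exact (Subgroup.mem_map_iff_mem (f := (MulAut.conj g).toMonoidHom)
          (MulAut.conj g).injective).symm
      have hsf : A ⊓ cfix n₀ = A ⊓ sfix N₁ := by
        refine le_antisymm ?_ ?_
        · rintro a ⟨ha, hf⟩
          refine ⟨ha, mem_sfix.mpr ?_⟩
          let St : Subgroup (MulAut W) :=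
            { carrier := {x | x a = a}
              one_mem' := rfl
              mul_mem' := fun {x y} hx hy => by
                show x (y a) = a
                rw [show y a = a from hy]; exact hx
              inv_mem' := fun {x} hx => by
                show x⁻¹ a = a
                conv_lhs => rw [← show x a = a from hx]
                simp }
          exact fun x hx => (sup_le (Subgroup.zpowers_le.mpr (show n₀ ∈ St from hf))
            (fun y hy => hy.2 a ha) : N₁ ≤ St) hx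
        · exact inf_le_inf_left _ fun a ha =>
            mem_sfix.mp ha n₀ (Subgroup.mem_sup_left (Subgroup.mem_zpowers _))
      refine split N₁ hle hg₁ (hnormN N₁ le_sup_right hle) (hsf ▸ hb) fun e => hn₀K ⟨hn₀, fun a ha => ?_⟩
      rw [← hsf] at e
      exact (e.ge ha).2
    push Not at h0
    -- an invariant subgroup between the kernel and `N`
    by_cases h1 : ∃ N₁ : Subgroup (MulAut W), K₀ < N₁ ∧ N₁ < N ∧
        g ∈ Subgroup.normalizer (N₁ : Set (MulAut W))
    · obtain ⟨N₁, hK, hlt, hg₁⟩ := h1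
      haveI := Fintype.ofFinite N₁
      have hn₁ := hnormN N₁ hK.le hlt.le
      by_cases hb : A ⊓ sfix N₁ = ⊥
      · refine prodFix_coset hlt.le fun n => ih (g * n) N₁ A ?_ (mul_mem hg₁ (hn₁ n.2))
          (fun x hx => hNA x (hlt.le hx)) (fun a ha => hgA _ (hNA _ n.2 a ha))
          (hcop.coprime_dvd_right (Subgroup.card_dvd_of_le hlt.le)) ?_
          (fun x hx y hy => hab x (hlt.le hx) y (hlt.le hy)) hb
        · have : Nat.card N₁ < Nat.card N :=
            lt_of_le_of_ne (Nat.le_of_dvd Nat.card_pos (Subgroup.card_dvd_of_le hlt.le))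
              fun e => hlt.ne (Subgroup.eq_of_le_of_card_ge hlt.le e.ge)
          omega
        · -- the order of `g n`
          refine Nat.Coprime.coprime_dvd_right ?_ (hcopg.mul_right hcop)
          have hpow : ∀ i : ℕ, ∃ m ∈ N, (g * n) ^ i = g ^ i * m := fun i => by
            induction i with
            | zero => exact ⟨1, one_mem _, by simp⟩
            | succ i hi =>
              obtain ⟨m, hm, e⟩ := hi
              refine ⟨g⁻¹ * m * g * n, mul_mem ?_ n.2, ?_⟩
              · simpa using (Subgroup.mem_normalizer_iff.mp (inv_mem hgN) m).mp hm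
              · rw [pow_succ, e, pow_succ]; group
          obtain ⟨m, hm, e⟩ := hpow (orderOf g)
          refine orderOf_dvd_of_pow_eq_one ?_
          rw [pow_mul, e, pow_orderOf_eq_one, one_mul]
          exact congrArg Subtype.val (pow_card_eq_one' (x := (⟨m, hm⟩ : N)))
      · refine split N₁ hlt.le hg₁ hn₁ hb fun e => hK.not_ge fun x hx => ⟨hlt.le hx, fun a ha => ?_⟩
        exact mem_sfix.mp (e.ge ha).2 x hx
    push Not at h1
    -- a power of `g` of prime order without fixed points modulo the kernel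
    let Fx : ℕ → Prop := fun i => ∀ n ∈ N, g ^ i * n * (g ^ i)⁻¹ * n⁻¹ ∈ K₀
    have hex : ∃ i, 0 < i ∧ Fx i :=
      ⟨orderOf g, orderOf_pos g, fun n hn => by simp [pow_orderOf_eq_one]⟩
    set k := Nat.find hex
    have hk0 : 0 < k := (Nat.find_spec hex).1
    have hkF : Fx k := (Nat.find_spec hex).2
    obtain ⟨n₁, hn₁, hn₁K⟩ : ∃ n ∈ N, n ∉ K₀ := by
      by_contra hcon
      push Not at hcon
      exact hA (le_bot_iff.mp (hfix ▸ le_inf le_rfl fun a ha => mem_sfix.mpr fun n hn =>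
        (hcon n hn).2 a ha))
    have hk1 : k ≠ 1 := fun e => h0 n₁ hn₁ hn₁K (by
      have := hkF n₁ hn₁
      rwa [e, pow_one] at this)
    set s := k.minFac
    have hs : s.Prime := Nat.minFac_prime hk1
    obtain ⟨j, hj⟩ : s ∣ k := Nat.minFac_dvd k
    set τ := g ^ j with hτ
    have hτs : τ ^ s = g ^ k := by rw [hτ, ← pow_mul, hj, mul_comm]
    have hτN : τ ∈ Subgroup.normalizer (N : Set (MulAut W)) := pow_mem hgN j
    have hτA : ∀ a ∈ A, τ a ∈ A := by
      have : ∀ i : ℕ, ∀ a ∈ A, (g ^ i) a ∈ A := fun i => by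
        induction i with
        | zero => exact fun a ha => ha
        | succ i hi => exact fun a ha => by rw [pow_succ]; exact hi _ (hgA a ha)
      exact this j
    have hτAi : ∀ a ∈ A, τ⁻¹ a ∈ A := by
      intro a ha
      let f : A → A := fun b => ⟨τ b, hτA b b.2⟩
      have hf : Function.Injective f := fun x y e =>
        Subtype.ext (τ.injective (congrArg Subtype.val e))
      obtain ⟨b, hb⟩ := (Finite.injective_iff_surjective.mp hf) ⟨a, ha⟩
      rw [← show τ b = a from congrArg Subtype.val hb]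
      simp
    have hK₀g : ∀ x, x ∈ K₀ → g * x * g⁻¹ ∈ K₀ := fun x hx =>
      ⟨(Subgroup.mem_normalizer_iff.mp hgN x).mp hx.1, fun a ha => by
        show g (x (g⁻¹ a)) = a
        rw [hx.2 _ (hgAi a ha), MulAut.apply_inv_self]⟩
    have hK₀τ : ∀ x, x ∈ K₀ → τ * x * τ⁻¹ ∈ K₀ := fun x hx =>
      ⟨(Subgroup.mem_normalizer_iff.mp hτN x).mp hx.1, fun a ha => by
        show τ (x (τ⁻¹ a)) = a
        rw [hx.2 _ (hτAi a ha), MulAut.apply_inv_self]⟩
    have hKn : ∀ n ∈ N, ∀ x ∈ K₀, n * x * n⁻¹ ∈ K₀ := fun n hn x hx =>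
      ⟨mul_mem (mul_mem hn hx.1) (inv_mem hn), fun a ha => by
        show n (x (n⁻¹ a)) = a
        rw [hx.2 _ (hNA _ (inv_mem hn) a ha), MulAut.apply_inv_self]⟩
    have hcommK : ∀ x ∈ N, ∀ y ∈ N, x * y * x⁻¹ * y⁻¹ ∈ K₀ := fun x hx y hy =>
      ⟨mul_mem (mul_mem (mul_mem hx hy) (inv_mem hx)) (inv_mem hy), fun a ha => by
        have h1 := hab x hx y hy (x⁻¹ (y⁻¹ a)) (hNA _ (inv_mem hx) _ (hNA _ (inv_mem hy) _ ha))
        simpa [MulAut.mul_apply] using h1⟩
    let Z : Subgroup (MulAut W) :=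
      { carrier := {x | x ∈ N ∧ τ * x * τ⁻¹ * x⁻¹ ∈ K₀}
        one_mem' := ⟨one_mem _, by simp⟩
        mul_mem' := fun {x y} hx hy => ⟨mul_mem hx.1 hy.1, by
          have := mul_mem hx.2 (hKn x hx.1 _ hy.2)
          convert this using 1
          group⟩
        inv_mem' := fun {x} hx => ⟨inv_mem hx.1, by
          have := hKn x⁻¹ (inv_mem hx.1) _ (inv_mem hx.2)
          convert this using 1
          group⟩ }
    have hgZ : g ∈ Subgroup.normalizer (Z : Set (MulAut W)) := by
      rw [Subgroup.mem_normalizer_iff_map_conj_eq]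
      refine Subgroup.eq_of_le_of_card_ge ?_ (Subgroup.card_map_of_injective (MulAut.conj g).injective).ge
      rintro _ ⟨x, hx, rfl⟩
      refine ⟨(Subgroup.mem_normalizer_iff.mp hgN x).mp hx.1, ?_⟩
      have h2 := hK₀g _ hx.2
      have hcm : τ * g = g * τ := by rw [hτ, ← pow_succ, ← pow_succ']
      have hcm' : τ⁻¹ * g = g * τ⁻¹ := ((show Commute τ g from hcm).inv_left).eq
      convert h2 using 1
      show τ * (g * x * g⁻¹) * τ⁻¹ * (g * x * g⁻¹)⁻¹ = g * (τ * x * τ⁻¹ * x⁻¹) * g⁻¹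
      have hcm'' : g⁻¹ * τ⁻¹ = τ⁻¹ * g⁻¹ := ((show Commute g τ from hcm.symm).inv_inv).eq
      calc τ * (g * x * g⁻¹) * τ⁻¹ * (g * x * g⁻¹)⁻¹
          = (τ * g) * x * (g⁻¹ * τ⁻¹) * g * x⁻¹ * g⁻¹ := by group
        _ = (g * τ) * x * (τ⁻¹ * g⁻¹) * g * x⁻¹ * g⁻¹ := by rw [hcm, hcm'']
        _ = _ := by group
    have hZK : Z ≤ K₀ := by
      have hle : K₀ ≤ Z := fun x hx => ⟨hx.1, mul_mem (hK₀τ x hx) (inv_mem hx)⟩
      rcases hle.lt_or_eq with hlt | he
      · exfalso
        have hZN : Z ≤ N := fun x hx => hx.1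
        rcases hZN.lt_or_eq with hlt' | he'
        · exact h1 Z hlt hlt' hgZ
        · have hj0 : 0 < j := Nat.pos_of_ne_zero fun e => by rw [e, mul_zero] at hj; omega
          refine Nat.find_min hex (m := j) ?_ ⟨hj0, fun n hn => ?_⟩
          · show j < k
            rw [hj]
            exact lt_mul_of_one_lt_left hj0 hs.one_lt
          · exact ((he'.ge hn : n ∈ Z)).2
      · exact he.ge
    -- the fixed points of every `g n` lie in those of a conjugate of `τ`
    set A' := A ⊓ cfix (τ ^ s) with hA'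
    have hτsN : ∀ n ∈ N, ∀ a ∈ A, (τ ^ s) (n a) = n ((τ ^ s) a) := by
      intro n hn a ha
      have hk2 := hkF n hn
      rw [← hτs] at hk2
      refine comm_of_commutator (fun b hb => ?_) (fun b hb => hNA n hn b hb) hk2.2 a ha
      have : ∀ i : ℕ, (τ ^ i) b ∈ A := fun i => by
        induction i with
        | zero => exact hb
        | succ i hi => rw [pow_succ']; exact hτA _ hi
      exact this s
    have hNA' : Inv N A' := fun n hn a ha => ⟨hNA n hn a ha.1, by
      show (τ ^ s) (n a) = n a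
      rw [hτsN n hn a ha.1, mem_cfix.mp ha.2]⟩
    have hτA' : ∀ a ∈ A', τ a ∈ A' := fun a ha => ⟨hτA a ha.1, by
      show (τ ^ s) (τ a) = τ a
      calc (τ ^ s) (τ a) = τ ((τ ^ s) a) := by
            rw [← MulAut.mul_apply, ← pow_succ, pow_succ', MulAut.mul_apply]
        _ = _ := by rw [mem_cfix.mp ha.2]⟩
    have hsk : s ∣ orderOf g := by
      have hdiv : k ∣ orderOf g := by
        have hG : ∀ a b, Fx a → Fx (a + b) → Fx b := by
          intro a b ha hab' n hn
          have hmn : g ^ b * n * (g ^ b)⁻¹ ∈ N :=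
            (Subgroup.mem_normalizer_iff.mp (pow_mem hgN b) n).mp hn
          have e1 := ha _ hmn
          have e2 := hab' n hn
          have := mul_mem (inv_mem e1) e2
          convert this using 1
          rw [pow_add]; group
        have hmul : ∀ c, Fx (k * c) := by
          intro c
          induction c with
          | zero => intro n hn; simp
          | succ c hc =>
            intro n hn
            have hmn : g ^ k * n * (g ^ k)⁻¹ ∈ N :=
              (Subgroup.mem_normalizer_iff.mp (pow_mem hgN k) n).mp hn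
            have := mul_mem (hc _ hmn) (hkF n hn)
            convert this using 1
            rw [Nat.mul_succ, pow_add]; group
        by_contra hnd
        have hlt : orderOf g % k < k := Nat.mod_lt _ hk0
        refine Nat.find_min hex hlt ⟨Nat.pos_of_ne_zero fun e => hnd (Nat.dvd_of_mod_eq_zero e), ?_⟩
        refine hG (k * (orderOf g / k)) _ (hmul _) ?_
        rw [Nat.div_add_mod]
        intro n hn
        simp [pow_orderOf_eq_one]
      exact (Dvd.intro j hj.symm).trans hdiv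
    have hfix' : A' ⊓ sfix N = ⊥ := eq_bot_iff.mpr fun x hx => hfix.le ⟨hx.1.1, hx.2⟩
    have hfpf : ∀ n ∈ N, (∀ a ∈ A', τ (n a) = n (τ a)) → ∀ a ∈ A', n a = a := by
      intro n hn hc a ha
      -- the subgroup of `N` commuting with `τ` on `A'` is trivial there
      let Z' : Subgroup (MulAut W) :=
        { carrier := {x | x ∈ N ∧ ∀ b ∈ A', τ (x b) = x (τ b)}
          one_mem' := ⟨one_mem _, fun b _ => rfl⟩
          mul_mem' := fun {x y} hx hy => ⟨mul_mem hx.1 hy.1, fun b hb => by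
            rw [MulAut.mul_apply, hx.2 _ (hNA' y hy.1 b hb), hy.2 b hb]; rfl⟩
          inv_mem' := fun {x} hx => ⟨inv_mem hx.1, fun b hb => by
            have := hx.2 (x⁻¹ b) (hNA' _ (inv_mem hx.1) b hb)
            rw [MulAut.apply_inv_self] at this
            rw [this]; simp⟩ }
      let Z'' : Subgroup (MulAut W) :=
        { carrier := {x | x ∈ N ∧ ∀ b ∈ A', x b = b}
          one_mem' := ⟨one_mem _, fun b _ => rfl⟩
          mul_mem' := fun {x y} hx hy => ⟨mul_mem hx.1 hy.1, fun b hb => by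
            rw [MulAut.mul_apply, hy.2 b hb, hx.2 b hb]⟩
          inv_mem' := fun {x} hx => ⟨inv_mem hx.1, fun b hb => by
            conv_lhs => rw [← hx.2 b hb]
            simp⟩ }
      have hgA'i : ∀ b ∈ A', g⁻¹ b ∈ A' := fun b hb => ⟨hgAi b hb.1, by
        show (τ ^ s) (g⁻¹ b) = g⁻¹ b
        rw [hτs]
        have h2 : (g ^ k) b = b := by rw [← hτs]; exact hb.2
        calc (g ^ k) (g⁻¹ b) = g⁻¹ ((g ^ k) b) := by
              rw [← MulAut.mul_apply, ← MulAut.mul_apply,
                ((Commute.refl g).pow_left k).inv_right.eq]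
          _ = _ := by rw [h2]⟩
      have hK₀Z : K₀ ≤ Z'' := fun x hx => ⟨hx.1, fun b hb => hx.2 b hb.1⟩
      have hgZ'' : g ∈ Subgroup.normalizer (Z'' : Set (MulAut W)) := by
        rw [Subgroup.mem_normalizer_iff_map_conj_eq]
        refine Subgroup.eq_of_le_of_card_ge ?_
          (Subgroup.card_map_of_injective (MulAut.conj g).injective).ge
        rintro _ ⟨x, hx, rfl⟩
        refine ⟨(Subgroup.mem_normalizer_iff.mp hgN x).mp hx.1, fun b hb => ?_⟩
        show (g * x * g⁻¹) b = b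
        show g (x (g⁻¹ b)) = b
        rw [hx.2 _ (hgA'i b hb), MulAut.apply_inv_self]
      rcases hK₀Z.lt_or_eq with hlt | he
      · have hle : Z'' ≤ N := fun x hx => hx.1
        rcases hle.lt_or_eq with hlt' | he'
        · exact absurd hgZ'' (h1 Z'' hlt hlt')
        · exact ((he'.ge hn : n ∈ Z'')).2 a ha
      · -- then `A'` detects the action of `N`
        have hcm : τ * n * τ⁻¹ * n⁻¹ ∈ Z'' :=
          ⟨mul_mem ((Subgroup.mem_normalizer_iff.mp hτN n).mp hn) (inv_mem hn), fun b hb => by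
            have hb1 : n⁻¹ b ∈ A' := hNA' _ (inv_mem hn) b hb
            -- `τ` permutes `A'`
            let f : A' → A' := fun c => ⟨τ c, hτA' c c.2⟩
            have hf : Function.Injective f := fun x y e =>
              Subtype.ext (τ.injective (congrArg Subtype.val e))
            obtain ⟨c, hc'⟩ := (Finite.injective_iff_surjective.mp hf) ⟨_, hb1⟩
            have hc'' : τ c = n⁻¹ b := congrArg Subtype.val hc'
            show τ (n (τ⁻¹ (n⁻¹ b))) = b
            rw [← hc'', MulAut.inv_apply_self, hc c c.2, hc'']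
            simp⟩
        rw [← he] at hcm
        exact (hK₀Z (hZK ⟨hn, hcm⟩)).2 a ha
    have hbound : Nat.card (A' ⊓ cfix τ : Subgroup W) ^ 2 ≤ Nat.card A := by
      refine le_trans (sq_fix_le hτN hNA' hτA' hcop hs
        (hcopg.coprime_dvd_right hsk).symm (fun a ha => mem_cfix.mp ha.2) hfix' hfpf)
        (Nat.le_of_dvd Nat.card_pos (Subgroup.card_dvd_of_le inf_le_left))
    rw [prodFix, Nat.card_eq_fintype_card (α := N), ← Finset.card_univ, ← Finset.prod_const]
    refine Finset.prod_le_prod' fun n _ => le_trans (Nat.pow_le_pow_left ?_ 2) hbound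
    -- `(g n) ^ j = τ m` is conjugate to `τ` on `A`
    obtain ⟨m, hm, hmj⟩ : ∃ m ∈ N, (g * n) ^ j = τ * m := by
      have : ∀ i : ℕ, ∃ m ∈ N, (g * n) ^ i = g ^ i * m := fun i => by
        induction i with
        | zero => exact ⟨1, one_mem _, by simp⟩
        | succ i hi =>
          obtain ⟨m, hm, e⟩ := hi
          refine ⟨g⁻¹ * m * g * n, mul_mem ?_ n.2, ?_⟩
          · simpa using (Subgroup.mem_normalizer_iff.mp (inv_mem hgN) m).mp hm
          · rw [pow_succ, e, pow_succ]; group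
      exact this j
    obtain ⟨c, hcN, hcK⟩ : ∃ c ∈ N, (τ⁻¹ * c * τ * c⁻¹)⁻¹ * m ∈ K₀ := by
      -- a map of `N ⧸ K₀` to itself that is one-to-one, hence onto
      haveI : (K₀.subgroupOf N).Normal := ⟨fun x hx y =>
        Subgroup.mem_subgroupOf.mpr (hKn y y.2 _ (Subgroup.mem_subgroupOf.mp hx))⟩
      let Q := N ⧸ K₀.subgroupOf N
      let d : N → N := fun c => ⟨τ⁻¹ * c * τ * (c : MulAut W)⁻¹, mul_mem (by
        simpa using (Subgroup.mem_normalizer_iff.mp (inv_mem hτN) c).mp c.2) (inv_mem c.2)⟩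
      have hd : ∀ a b : N, (a : Q) = (b : Q) → ((d a : N) : Q) = (d b : Q) := by
        intro a b e
        rw [QuotientGroup.eq, Subgroup.mem_subgroupOf] at e ⊢
        push_cast at e ⊢
        simp only [d]
        have h3 : (a : MulAut W) * (τ⁻¹ * ((a : MulAut W)⁻¹ * b) * τ) * (a : MulAut W)⁻¹ *
            ((a : MulAut W) * ((a : MulAut W)⁻¹ * b)⁻¹ * (a : MulAut W)⁻¹) ∈ K₀ := by
          refine mul_mem (hKn a a.2 _ ⟨?_, fun x hx => ?_⟩) (hKn a a.2 _ (inv_mem e))
          · simpa using (Subgroup.mem_normalizer_iff.mp (inv_mem hτN) _).mp e.1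
          · simp [MulAut.mul_apply, e.2 _ (hτA x hx)]
        convert h3 using 1
        group
      let D : Q → Q := fun q => Quotient.liftOn' q (fun c => (d c : Q)) fun a b hab' =>
        hd a b (Quotient.sound' hab')
      have hinj : Function.Injective D := by
        intro p q e
        induction p using Quotient.inductionOn' with
        | h a =>
        induction q using Quotient.inductionOn' with
        | h b =>
        have e' : ((d a : N) : Q) = (d b : Q) := e
        rw [QuotientGroup.eq, Subgroup.mem_subgroupOf] at e'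
        refine QuotientGroup.eq.mpr (Subgroup.mem_subgroupOf.mpr (hZK ⟨mul_mem (inv_mem a.2) b.2, ?_⟩))
        push_cast at e'
        simp only [d] at e'
        have h3 : τ * ((a : MulAut W)⁻¹ *
            ((τ⁻¹ * a * τ * (a : MulAut W)⁻¹)⁻¹ * (τ⁻¹ * b * τ * (b : MulAut W)⁻¹)) * a) * τ⁻¹ ∈ K₀ :=
          hK₀τ _ (by simpa using hKn (a : MulAut W)⁻¹ (inv_mem a.2) _ e')
        have h4 : (τ * ((a : MulAut W)⁻¹ * b) * τ⁻¹ * ((a : MulAut W)⁻¹ * b)⁻¹)⁻¹ ∈ K₀ := by
          convert h3 using 1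
          push_cast
          group
        simpa using inv_mem h4
      obtain ⟨q, hq⟩ := (Finite.injective_iff_surjective.mp hinj) ((⟨m, hm⟩ : N) : Q)
      induction q using Quotient.inductionOn' with
      | h c =>
      refine ⟨c, c.2, ?_⟩
      have := QuotientGroup.eq.mp (show ((d c : N) : Q) = ((⟨m, hm⟩ : N) : Q) from hq)
      rw [Subgroup.mem_subgroupOf] at this
      simpa [d] using this
    refine Nat.card_le_card_of_injective
      (fun a : (A ⊓ cfix (g * n) : Subgroup W) =>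
        (⟨c⁻¹ (a : W), ?_⟩ : (A' ⊓ cfix τ : Subgroup W))) fun a b e =>
      Subtype.ext (c⁻¹.injective (congrArg Subtype.val e))
    obtain ⟨ha, hf⟩ := a.2
    have hp : ∀ i : ℕ, ((g * (n : MulAut W)) ^ i) (a : W) = a := fun i => by
      induction i with
      | zero => rfl
      | succ i hi => rw [pow_succ, MulAut.mul_apply, mem_cfix.mp hf, hi]
    have h2 := hp j
    have e : τ * m = τ * (τ⁻¹ * c * τ * c⁻¹) * ((τ⁻¹ * c * τ * c⁻¹)⁻¹ * m) := by group
    rw [hmj, e, MulAut.mul_apply, hcK.2 a ha] at h2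
    simp only [MulAut.mul_apply, MulAut.apply_inv_self] at h2
    have h3 : τ (c⁻¹ (a : W)) = c⁻¹ (a : W) := by
      apply c.injective
      rw [h2, MulAut.apply_inv_self]
    refine ⟨⟨hNA _ (inv_mem hcN) _ ha, ?_⟩, h3⟩
    have : ∀ i : ℕ, (τ ^ i) (c⁻¹ (a : W)) = c⁻¹ (a : W) := fun i => by
      induction i with
      | zero => rfl
      | succ i hi => rw [pow_succ, MulAut.mul_apply, h3, hi]
    exact this s

theorem prod_fix_le : ∀ (m : ℕ) (H : Subgroup (MulAut W)) [Fintype H] (A : Subgroup W),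
    Nat.card A ≤ m → Group.IsSolvable H → (Nat.card W).Coprime (Nat.card H) → Inv H A →
    A ⊓ sfix H = ⊥ → prodFix 1 H A ≤ Nat.card A ^ Nat.card H := by
  intro m
  induction m with
  | zero =>
    intro H _ A h
    exact absurd h (by have := Nat.card_pos (α := A); omega)
  | succ m ih =>
    intro H _ A hcard hsolv hcop hHA hfix
    classical
    by_cases hA : A = ⊥
    · refine le_of_eq ?_
      subst hA
      simp [prodFix]
    -- the last derived subgroup acting non-trivially
    obtain ⟨e, he⟩ := hsolv.solvable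
    let D : ℕ → Subgroup (MulAut W) := fun i => (derivedSeries H i).map H.subtype
    have hex : ∃ i, A ≤ sfix (D i) := ⟨e, fun a _ => mem_sfix.mpr fun n hn => by
      simp only [D, he, Subgroup.map_bot, Subgroup.mem_bot] at hn
      rw [hn]; rfl⟩
    have hi0 : Nat.find hex ≠ 0 := by
      intro h0
      have := Nat.find_spec hex
      rw [h0] at this
      refine hA (le_bot_iff.mp (hfix ▸ le_inf le_rfl (this.trans fun a ha => mem_sfix.mpr fun n hn => ?_)))
      refine mem_sfix.mp ha n ?_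
      simp only [D, derivedSeries_zero, ← MonoidHom.range_eq_map, Subgroup.range_subtype]
      exact hn
    obtain ⟨i, hi⟩ := Nat.exists_eq_succ_of_ne_zero hi0
    set N := D i
    have hN : ¬ A ≤ sfix N := Nat.find_min hex (by omega)
    have hN' : A ≤ sfix (D (i + 1)) := by
      have := Nat.find_spec hex; rwa [hi] at this
    haveI := Fintype.ofFinite N
    have hNH : N ≤ H := Subgroup.map_subtype_le _
    have hHn : H ≤ Subgroup.normalizer (N : Set (MulAut W)) :=
      (Subgroup.normal_subgroupOf_iff_le_normalizer hNH).mp (by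
        have e1 : N.subgroupOf H = derivedSeries H i :=
          Subgroup.comap_map_eq_self_of_injective H.subtype_injective _
        rw [e1]; exact derivedSeries_normal H i)
    have hcopN := hcop.coprime_dvd_right (Subgroup.card_dvd_of_le hNH)
    have hNA : Inv N A := fun x hx => hHA x (hNH hx)
    by_cases hb : A ⊓ sfix N = ⊥
    · refine prodFix_coset hNH fun n => prodFix_le _ (1 * (n : MulAut W)) N A le_rfl ?_ hNA ?_ hcopN ?_ ?_ hb
      · rw [one_mul]; exact hHn n.2
      · rw [one_mul]; exact fun a ha => hHA n n.2 a ha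
      · rw [one_mul]
        exact hcop.coprime_dvd_right ((Subgroup.orderOf_dvd_natCard H n.2))
      · intro x hx y hy a ha
        have hc : x * y * x⁻¹ * y⁻¹ ∈ D (i + 1) := by
          obtain ⟨x', hx', rfl⟩ := hx
          obtain ⟨y', hy', rfl⟩ := hy
          refine ⟨x' * y' * x'⁻¹ * y'⁻¹, ?_, rfl⟩
          exact Subgroup.commutator_mem_commutator hx' hy'
        have := mem_sfix.mp (hN' (hNA y hy _ (hNA x hx a ha))) _ hc
        simpa [MulAut.mul_apply] using this
    · have hne : A ⊓ sfix N ≠ A := fun e => hN (e.ge.trans inf_le_right)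
      have hA₁ := hNA
      have hcA := split_card N hcopN hA₁
      have h1 : 1 < Nat.card (A ⊓ sfix N : Subgroup W) := (Subgroup.one_lt_card_iff_ne_bot _).mpr hb
      have h2 : 1 < Nat.card (A ⊓ (tr N).ker : Subgroup W) := by
        rw [Subgroup.one_lt_card_iff_ne_bot]
        intro e
        rw [e, Subgroup.card_bot, mul_one] at hcA
        exact hne (Subgroup.eq_of_le_of_card_ge inf_le_left hcA.le)
      rw [prodFix_split N hcopN (one_mem _) hHn hA₁, hcA, mul_pow]
      refine Nat.mul_le_mul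
        (ih H _ ?_ hsolv hcop (inv_sfix hHn hHA) (eq_bot_iff.mpr fun x hx => hfix.le ⟨hx.1.1, hx.2⟩))
        (ih H _ ?_ hsolv hcop (inv_ker hHn hHA) (eq_bot_iff.mpr fun x hx => hfix.le ⟨hx.1.1, hx.2⟩))
      · have := lt_mul_of_one_lt_right (by omega : 0 < Nat.card (A ⊓ sfix N : Subgroup W)) h2
        omega
      · have := lt_mul_of_one_lt_left (by omega : 0 < Nat.card (A ⊓ (tr N).ker : Subgroup W)) h1
        omega

end H10.Prim
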