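/-
The `p`-part of the degree of a primitive character of a solvable group is at most the `p`-part of
the size of some conjugacy class: along a chief series the homogeneous restrictions are compared
with the average number of fixed points of a Hall `p'`-subgroup on the chief factors.
-/
import Mathlib
import Cfsg.Agent.H10.Prim.FixedAvg
import Cfsg.Agent.H15.HomogeneousMain
import Cfsg.Agent.H13.Correspondence
import Cfsg.Agent.H12.CoprimeCount
import Cfsg.Agent.H1.Hall

set_option autoImplicit false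
set_option linter.unusedSectionVars false
set_option linter.style.haveILetI false

open Cfsg Finset

namespace H10.Prim

universe u

/-- The exponent of `p` in `n`. -/
abbrev vp (p n : ℕ) : ℕ := n.factorization p

theorem vp_mul {p a b : ℕ} (ha : a ≠ 0) (hb : b ≠ 0) : vp p (a * b) = vp p a + vp p b := by
  simp [vp, Nat.factorization_mul ha hb]

theorem vp_le_of_dvd {p a b : ℕ} (hb : b ≠ 0) (h : a ∣ b) : vp p a ≤ vp p b :=
  (Nat.factorization_le_iff_dvd (ne_zero_of_dvd_ne_zero hb h) hb).mpr h p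

theorem vp_pow_self {p : ℕ} (hp : p.Prime) (k : ℕ) : vp p (p ^ k) = k := by
  simp [vp, hp.factorization_self]

section Group

/-- A normal `p`-subgroup fixes everything in an irreducible module of characteristic `p`. -/
theorem normal_pgroup_trivial {G : Type u} [Group G] {W : Type u} [CommGroup W] [Finite W]
    [Nontrivial W] {p : ℕ} [Fact p.Prime] (hW : IsPGroup p W) (φ : G →* MulAut W)
    (hirr : ∀ B : Subgroup W, (∀ g, ∀ b ∈ B, φ g b ∈ B) → B = ⊥ ∨ B = ⊤)
    (R : Subgroup G) [R.Normal] (hR : IsPGroup p (R.map φ)) : R.map φ = ⊥ := by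
  let S : Subgroup W := sfix (R.map φ)
  have hS : ∀ g, ∀ b ∈ S, φ g b ∈ S := by
    intro g b hb
    rw [mem_sfix] at hb ⊢
    rintro _ ⟨x, hx, rfl⟩
    have h1 := hb _ ⟨g⁻¹ * x * g, by simpa using ‹R.Normal›.conj_mem x hx g⁻¹, rfl⟩
    rw [map_mul, map_mul, map_inv, MulAut.mul_apply, MulAut.mul_apply] at h1
    conv_rhs => rw [← h1]
    rw [MulAut.apply_inv_self]
  rcases hirr S hS with h | h
  · exfalso
    letI : MulAction (R.map φ) W := MulAction.compHom W (R.map φ).subtype
    have hd : p ∣ Nat.card W := hW.card_eq_or_dvd.resolve_left Finite.one_lt_card.ne'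
    have h1 : (1 : W) ∈ MulAction.fixedPoints (R.map φ) W := fun x => map_one (x : MulAut W)
    obtain ⟨w, hw, hne⟩ := hR.exists_fixed_point_of_prime_dvd_card_of_fixed_point W hd h1
    have : w ∈ S := mem_sfix.mpr fun n hn => hw ⟨n, hn⟩
    rw [h, Subgroup.mem_bot] at this
    exact hne this.symm
  · rw [Subgroup.eq_bot_iff_forall]
    intro x hx
    refine MulEquiv.ext fun w => ?_
    exact mem_sfix.mp (h.ge (Subgroup.mem_top w)) x hx

/-- The average exponent of the fixed points of a Hall `p'`-subgroup is at most one half. -/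
theorem fix_avg {G : Type u} [Group G] [Finite G] [Group.IsSolvable G] {W : Type u} [CommGroup W]
    [Finite W] [Nontrivial W] {p k : ℕ} [hp : Fact p.Prime] (hW : Nat.card W = p ^ k)
    (φ : G →* MulAut W)
    (hirr : ∀ B : Subgroup W, (∀ g, ∀ b ∈ B, φ g b ∈ B) → B = ⊥ ∨ B = ⊤)
    (hne : φ ≠ 1) (H : Subgroup G) [Fintype H] (hH : (Nat.card H).Coprime p)
    (hHi : ∃ a, H.index = p ^ a) :
    2 * ∑ h : H, vp p (Nat.card (cfix (φ h))) ≤ Nat.card H * k := by
  classical
  have hWp : IsPGroup p W := IsPGroup.of_card hW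
  set Hb := H.map φ with hHb
  haveI := Fintype.ofFinite Hb
  -- no common fixed point
  have hfix : (⊤ : Subgroup W) ⊓ sfix Hb = ⊥ := by
    haveI : Nontrivial (G ⧸ φ.ker) :=
      QuotientGroup.nontrivial_iff.2 fun h => hne (MonoidHom.ker_eq_top_iff.mp h)
    haveI : Group.IsSolvable (G ⧸ φ.ker) :=
      Group.isSolvable_of_surjective (f := QuotientGroup.mk' φ.ker) (QuotientGroup.mk'_surjective _)
    obtain ⟨M, r, hMn, hr, hM0, hMpow, -, -⟩ :=
      H15.exists_minimal_normal_elementary (G := G ⧸ φ.ker)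
    haveI := Fact.mk hr
    set R := M.comap (QuotientGroup.mk' φ.ker) with hR
    haveI : R.Normal := hMn.comap _
    have hR1 : R.map φ ≠ ⊥ := by
      intro e
      apply hM0
      rw [Subgroup.eq_bot_iff_forall]
      intro x hx
      obtain ⟨g, rfl⟩ := QuotientGroup.mk_surjective x
      refine (QuotientGroup.eq_one_iff g).2 ?_
      have : φ g ∈ R.map φ := Subgroup.mem_map_of_mem φ hx
      rwa [e, Subgroup.mem_bot] at this
    have hRp : IsPGroup r (R.map φ) := by
      rintro ⟨_, g, hg, rfl⟩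
      refine ⟨1, Subtype.ext ?_⟩
      have h1 : g ^ r ∈ φ.ker := by
        rw [← QuotientGroup.eq_one_iff, QuotientGroup.mk_pow]
        exact hMpow _ hg
      simpa [map_pow] using (MonoidHom.mem_ker.mp h1)
    have hrp : r ≠ p := by
      rintro rfl
      exact hR1 (normal_pgroup_trivial hWp φ hirr R hRp)
    -- `M` lies in the image of `H`
    set Hq := H.map (QuotientGroup.mk' φ.ker) with hHq
    have hMH : M ≤ Hq := by
      haveI := hMn
      set c := M.relIndex Hq
      have h1 : Nat.card ↥(Hq ⊔ M) = Nat.card M * c := by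
        have := (M.subgroupOf (Hq ⊔ M)).card_mul_index
        rw [Nat.card_congr (Subgroup.subgroupOfEquivOfLe le_sup_right).toEquiv] at this
        rw [← this]
        show _ * M.relIndex (Hq ⊔ M) = _
        rw [Subgroup.relIndex_sup_right]
      have h2 : Nat.card Hq = Nat.card ↥(M ⊓ Hq) * c := by
        have := (M.subgroupOf Hq).card_mul_index
        rw [← Subgroup.inf_subgroupOf_right,
          Nat.card_congr (Subgroup.subgroupOfEquivOfLe inf_le_right).toEquiv,
          Subgroup.inf_subgroupOf_right] at this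
        exact this.symm
      have h3 := Nat.card_congr (Subgroup.subgroupOfEquivOfLe (le_sup_left : Hq ≤ Hq ⊔ M)).toEquiv
      have h4 := (Hq.subgroupOf (Hq ⊔ M)).card_mul_index
      rw [h3, h1, h2, mul_assoc] at h4
      set j := (Hq.subgroupOf (Hq ⊔ M)).index with hj
      have hc : 0 < c := Nat.pos_of_ne_zero fun e => by
        rw [e, mul_zero] at h2; exact Nat.card_pos.ne' h2
      have h5 : Nat.card M = Nat.card ↥(M ⊓ Hq) * j := by
        refine Nat.eq_of_mul_eq_mul_right hc ?_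
        rw [← h4]; ring
      obtain ⟨n, hn⟩ := H15.card_eq_prime_pow_of_exponent M hr hMpow
      obtain ⟨a, ha⟩ := hHi
      have h6 : j ∣ p ^ a := by
        rw [← ha]
        refine dvd_trans ?_ (H.index_map_dvd (QuotientGroup.mk'_surjective φ.ker))
        exact Subgroup.relIndex_dvd_index_of_le (le_sup_left : Hq ≤ Hq ⊔ M) |>.trans dvd_rfl
      have hj1 : j = 1 := by
        refine Nat.eq_one_of_dvd_coprimes
          (((Nat.coprime_primes hr hp.out).2 hrp).pow n a) ?_ h6
        rw [← hn, h5]; exact dvd_mul_left _ _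
      exact le_sup_right.trans (Subgroup.subgroupOf_eq_top.mp (Subgroup.index_eq_one.mp hj1))
    have hle : R.map φ ≤ Hb := by
      rintro _ ⟨g, hg, rfl⟩
      obtain ⟨h, hh, e⟩ := hMH hg
      refine ⟨h, hh, ?_⟩
      have : h⁻¹ * g ∈ φ.ker := QuotientGroup.eq.mp e
      rwa [MonoidHom.mem_ker, map_mul, map_inv, inv_mul_eq_one] at this
    rw [top_inf_eq, eq_bot_iff]
    have hS : ∀ g, ∀ b ∈ sfix (R.map φ), φ g b ∈ sfix (R.map φ) := by
      intro g b hb
      rw [mem_sfix] at hb ⊢
      rintro _ ⟨x, hx, rfl⟩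
      have h1 := hb _ ⟨g⁻¹ * x * g, by simpa using ‹R.Normal›.conj_mem x hx g⁻¹, rfl⟩
      rw [map_mul, map_mul, map_inv, MulAut.mul_apply, MulAut.mul_apply] at h1
      conv_rhs => rw [← h1]
      rw [MulAut.apply_inv_self]
    rcases hirr _ hS with h | h
    · intro w hw
      rw [← h]
      exact mem_sfix.mpr fun n hn => mem_sfix.mp hw n (hle hn)
    · exact absurd ((Subgroup.eq_bot_iff_forall _).2 fun x hx => MulEquiv.ext fun w =>
        mem_sfix.mp (h.ge (Subgroup.mem_top w)) x hx) hR1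
  have hsolv : Group.IsSolvable Hb :=
    Group.isSolvable_of_surjective (f := φ.subgroupMap H) (φ.subgroupMap_surjective H)
  have hcop : (Nat.card W).Coprime (Nat.card Hb) := by
    rw [hW]
    exact (hH.symm.coprime_dvd_right (Subgroup.card_map_dvd _ φ)).pow_left k
  have key := prod_fix_le (Nat.card (⊤ : Subgroup W)) Hb ⊤ le_rfl hsolv hcop
    (fun _ _ _ _ => Subgroup.mem_top _) hfix
  set F : MulAut W → ℕ := fun x => vp p (Nat.card (cfix x)) with hF
  have hcard : ∀ x : MulAut W, Nat.card (cfix x) = p ^ F x := by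
    intro x
    obtain ⟨i, -, hi⟩ := (Nat.dvd_prime_pow hp.out).1 (hW ▸ Subgroup.card_subgroup_dvd_card (cfix x))
    simp only [hF]
    rw [hi, vp_pow_self hp.out]
  have h2 : 2 * ∑ x : Hb, F x ≤ k * Nat.card Hb := by
    simp only [prodFix, one_mul, top_inf_eq, Subgroup.card_top, hcard, hW, ← pow_mul,
      Finset.prod_pow_eq_pow_sum] at key
    rw [Finset.mul_sum]
    simp only [mul_comm 2]
    exact (Nat.pow_le_pow_iff_right hp.out.one_lt).mp key
  let ψ := φ.subgroupMap H
  have hψ : ∀ h : H, (ψ h : MulAut W) = φ h := fun _ => rfl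
  have h3 : Nat.card Hb * ∑ h : H, F (φ h) = Nat.card H * ∑ x : Hb, F x := by
    have e1 : ∀ x : Hb, ∑ h : H, F ((ψ h * x : Hb) : MulAut W) = ∑ h : H, F (φ h) := by
      intro x
      obtain ⟨h₀, rfl⟩ := φ.subgroupMap_surjective H x
      exact Fintype.sum_equiv (Equiv.mulRight h₀) _ _ fun h => by
        rw [Equiv.coe_mulRight, ← hψ, map_mul]
    have e2 : ∀ h : H, ∑ x : Hb, F ((ψ h * x : Hb) : MulAut W) = ∑ x : Hb, F x := fun h =>
      Fintype.sum_equiv (Equiv.mulLeft (ψ h)) _ _ fun _ => rfl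
    calc Nat.card Hb * ∑ h : H, F (φ h)
        = ∑ x : Hb, ∑ h : H, F ((ψ h * x : Hb) : MulAut W) := by
          simp only [e1]; simp [Nat.card_eq_fintype_card]
      _ = ∑ h : H, ∑ x : Hb, F ((ψ h * x : Hb) : MulAut W) := Finset.sum_comm
      _ = _ := by simp only [e2]; simp [Nat.card_eq_fintype_card]
  refine Nat.le_of_mul_le_mul_left ?_ (Nat.card_pos (α := Hb))
  calc Nat.card Hb * (2 * ∑ h : H, F (φ h)) = Nat.card H * (2 * ∑ x : Hb, F x) := by
        rw [mul_left_comm, h3, mul_left_comm]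
    _ ≤ Nat.card H * (k * Nat.card Hb) := Nat.mul_le_mul_left _ h2
    _ = _ := by ring

end Group

section Chief

variable {G : Type u} [Group G] [Finite G] {p : ℕ} [hp : Fact p.Prime]

/-- `f h` acts as `h` on the non-central chief factors of `p`-power order. -/
def ActsAs (p : ℕ) (H : Subgroup G) (f : G → G) : Prop :=
  ∀ (L : Subgroup G) [L.Normal] (K : Subgroup (G ⧸ L)), K.Normal → IsPGroup p K → K ≠ ⊥ →
    (∀ B : Subgroup (G ⧸ L), B.Normal → B ≤ K → B = ⊥ ∨ B = K) →
    (∀ a ∈ K, ∀ b ∈ K, a * b = b * a) → (¬ ∀ q : G ⧸ L, ∀ a ∈ K, q * a = a * q) →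
    ∀ h ∈ H, ∀ a ∈ K, (f h : G ⧸ L) * a * (f h : G ⧸ L)⁻¹ = (h : G ⧸ L) * a * (h : G ⧸ L)⁻¹

theorem actsAs_id (H : Subgroup G) : ActsAs p H id := fun _ _ _ _ _ _ _ _ _ _ _ _ _ => rfl

/-- The bound on one chief factor. -/
theorem chief_bound [Group.IsSolvable G] (H : Subgroup G) [Fintype H]
    (hH : (Nat.card H).Coprime p) (hHi : ∃ a, H.index = p ^ a) (f : G → G) (hf : ActsAs p H f)
    (L : Subgroup G) [L.Normal] (K : Subgroup (G ⧸ L)) [hK : K.Normal] {r : ℕ} (hr : r.Prime)
    (hK0 : K ≠ ⊥) (hpow : ∀ a ∈ K, a ^ r = 1) (hab : ∀ a ∈ K, ∀ b ∈ K, a * b = b * a)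
    (hmin : ∀ B : Subgroup (G ⧸ L), B.Normal → B ≤ K → B = ⊥ ∨ B = K)
    (t : ℕ) (ht : t ∣ Nat.card K) (ht2 : t ^ 2 ≤ Nat.card K) :
    ∑ h : H, vp p (Nat.card ↥(K ⊓ Subgroup.centralizer {(f h : G ⧸ L)})) + Nat.card H * vp p t
      ≤ Nat.card H * vp p (Nat.card K) := by
  obtain ⟨k, hk⟩ := H15.card_eq_prime_pow_of_exponent K hr hpow
  have hle : ∀ g : G ⧸ L, vp p (Nat.card ↥(K ⊓ Subgroup.centralizer {g})) ≤ vp p (Nat.card K) :=
    fun g => vp_le_of_dvd Nat.card_pos.ne' (Subgroup.card_dvd_of_le inf_le_left)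
  -- the trivial bound is enough when `t` is prime to `p`
  have triv : vp p t = 0 → ∑ h : H, vp p (Nat.card ↥(K ⊓ Subgroup.centralizer {(f h : G ⧸ L)})) +
      Nat.card H * vp p t ≤ Nat.card H * vp p (Nat.card K) := by
    intro h0
    rw [h0, mul_zero, add_zero]
    refine (Finset.sum_le_card_nsmul _ _ _ fun h _ => hle _).trans ?_
    simp [Nat.card_eq_fintype_card]
  rcases eq_or_ne r p with hrp | hrp
  swap
  · refine triv (Nat.le_zero.mp ((vp_le_of_dvd Nat.card_pos.ne' ht).trans (le_of_eq ?_)))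
    simp [vp, hk, hr.factorization, hrp]
  subst hrp
  obtain ⟨c, hck, rfl⟩ := (Nat.dvd_prime_pow hr).1 (hk ▸ ht)
  have hc2 : 2 * c ≤ k := by
    rw [hk, ← pow_mul] at ht2
    have := (Nat.pow_le_pow_iff_right hr.one_lt).mp ht2
    omega
  by_cases hcen : ∀ q : G ⧸ L, ∀ a ∈ K, q * a = a * q
  · refine triv ?_
    rw [vp_pow_self hr]
    -- a central minimal normal subgroup has prime order
    obtain ⟨a, ha, ha1⟩ : ∃ a ∈ K, a ≠ 1 := by
      by_contra hcon
      push Not at hcon
      exact hK0 ((Subgroup.eq_bot_iff_forall K).2 hcon)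
    have hza : Subgroup.zpowers a = K := by
      have hn : (Subgroup.zpowers a).Normal := ⟨fun x hx q => by
        rwa [hcen q x (Subgroup.zpowers_le.mpr ha hx), mul_inv_cancel_right]⟩
      exact (hmin _ hn (Subgroup.zpowers_le.mpr ha)).resolve_left
        (fun e => ha1 (Subgroup.zpowers_eq_bot.mp e))
    have : Nat.card K ∣ r := by
      rw [← hza, Nat.card_zpowers]; exact orderOf_dvd_of_pow_eq_one (hpow a ha)
    rw [hk] at this
    have h1 : k ≤ 1 := (Nat.pow_dvd_pow_iff_le_right hr.one_lt).mp (by simpa using this)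
    omega
  letI : CommGroup K :=
    { (inferInstance : Group K) with mul_comm := fun a b => Subtype.ext (hab a a.2 b b.2) }
  haveI : Nontrivial K := (Subgroup.nontrivial_iff_ne_bot K).2 hK0
  let φ : G →* MulAut K := (MulAut.conjNormal (H := K)).comp (QuotientGroup.mk' L)
  have hφ : ∀ (g : G) (a : K), ((φ g a : K) : G ⧸ L) = (g : G ⧸ L) * a * (g : G ⧸ L)⁻¹ := fun g a =>
    MulAut.conjNormal_apply _ _
  have hirr : ∀ B : Subgroup K, (∀ g, ∀ b ∈ B, φ g b ∈ B) → B = ⊥ ∨ B = ⊤ := by
    intro B hB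
    have hn : (B.map K.subtype).Normal := ⟨by
      rintro _ ⟨b, hb, rfl⟩ q
      obtain ⟨g, rfl⟩ := QuotientGroup.mk_surjective q
      exact ⟨φ g b, hB g b hb, hφ g b⟩⟩
    rcases hmin _ hn (Subgroup.map_subtype_le B) with h | h
    · exact Or.inl ((Subgroup.map_eq_bot_iff_of_injective _ K.subtype_injective).mp h)
    · refine Or.inr (eq_top_iff.mpr fun b _ => ?_)
      obtain ⟨b', hb', e⟩ := h.ge b.2
      rwa [← Subtype.ext e]
  have hne : φ ≠ 1 := by
    intro e
    apply hcen
    intro q a ha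
    obtain ⟨g, rfl⟩ := QuotientGroup.mk_surjective q
    have := hφ g ⟨a, ha⟩
    rw [e, MonoidHom.one_apply, MulAut.one_apply] at this
    exact mul_inv_eq_iff_eq_mul.mp this.symm
  have key := fix_avg (W := K) hk φ hirr hne H hH hHi
  have hcf : ∀ h : H, Nat.card (cfix (φ h)) =
      Nat.card ↥(K ⊓ Subgroup.centralizer {(f h : G ⧸ L)}) := by
    intro h
    have hact := hf L K hK (IsPGroup.of_card hk) hK0 hmin hab hcen h h.2
    refine Nat.card_congr
      { toFun := fun a => ⟨(a.1 : K), Subgroup.mem_inf.mpr ⟨a.1.2, ?_⟩⟩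
        invFun := fun a => ⟨⟨a.1, a.2.1⟩, ?_⟩
        left_inv := fun _ => rfl
        right_inv := fun _ => rfl }
    · rw [Subgroup.mem_centralizer_singleton_iff]
      have h1 := congrArg Subtype.val (mem_cfix.mp a.2)
      rw [hφ, ← hact _ a.1.2] at h1
      exact (mul_inv_eq_iff_eq_mul.mp h1).symm
    · rw [mem_cfix]
      apply Subtype.ext
      rw [hφ, ← hact _ a.2.1]
      exact mul_inv_eq_iff_eq_mul.mpr (Subgroup.mem_centralizer_singleton_iff.mp a.2.2).symm
  simp only [hcf] at key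
  rw [vp_pow_self hr, hk, vp_pow_self hr]
  have := Nat.mul_le_mul_left (Nat.card H) hc2
  rw [mul_left_comm] at this
  omega

end Chief

section Char

variable {G : Type u} [Group G] [Fintype G]

/-- All restrictions to normal subgroups are homogeneous. -/
def Homog (χ : G → ℂ) : Prop :=
  ∀ (N : Subgroup G) [N.Normal], ∃ (θ : IrrCharacter N) (e : ℕ),
    (fun n : N => χ n) = (e : ℂ) • (θ : N → ℂ)

theorem homog_of_primitive (χ : IrrCharacter G)
    (hprim : ¬ ∃ (H : Subgroup G), H ≠ ⊤ ∧ ∃ θ : ↥H → ℂ, Cfsg.IsCharacter ↥H θ ∧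
      Cfsg.indFun H θ = (χ : G → ℂ)) : Homog (χ : G → ℂ) := by
  intro N _
  classical
  have hχc := H12.isCharacter_irr χ
  have h0 : (χ : G → ℂ) ≠ 0 := fun e => H12.irr_apply_one_ne_zero χ (by rw [e]; rfl)
  obtain ⟨θ, hθ⟩ := H13.exists_constituent N hχc h0
  have hcl := H12.irr_isClassFunction θ
  have hT : H13.inertia N (θ : N → ℂ) = ⊤ := by
    by_contra hT
    obtain ⟨ψ, hψ, -, hind⟩ := H13.clifford_correspondence_exists N θ.2 rfl
      (H13.le_inertia N hcl) χ.2 hθ
    exact hprim ⟨_, hT, ψ, H12.isCharacter_of_isIrrCharacter hψ, hind⟩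
  obtain ⟨e, he⟩ := H12.IsCharacter.classInner_nat
    (H12.IsCharacter.res hχc N) (H12.isCharacter_irr θ)
  refine ⟨θ, e, ?_⟩
  rw [H13.clifford_res N χ.2 θ.2 hθ {θ} fun ψ => ?_, Finset.sum_singleton, he]
  rw [Finset.mem_singleton]
  refine ⟨fun h => ⟨1, by rw [H13.twist_one, h]⟩, ?_⟩
  rintro ⟨x, hx⟩
  have : x ∈ H13.inertia N (θ : N → ℂ) := hT.ge (Subgroup.mem_top x)
  exact Subtype.ext (hx.symm.trans this)

/-- The ratio of the degrees of the constituents on two normal subgroups. -/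
theorem ratio {χ : G → ℂ} (hχ : IsIrrCharacter G χ) {L N : Subgroup G} [L.Normal] [N.Normal]
    (hLN : L ≤ N) {θ : N → ℂ} (hθ : IsIrrCharacter N θ) {β : L → ℂ} (hβ : IsIrrCharacter L β)
    {e f : ℕ} (he : (fun x : N => χ x) = (e : ℂ) • θ) (hf : (fun x : L => χ x) = (f : ℂ) • β) :
    ∃ t : ℕ, H12.degree θ = t * H12.degree β ∧ t ∣ L.relIndex N ∧ t ^ 2 ≤ L.relIndex N := by
  classical
  have hχc := H12.isCharacter_of_isIrrCharacter hχ
  have hχ1 : χ 1 ≠ 0 := H12.irr_apply_one_ne_zero (⟨χ, hχ⟩ : IrrCharacter G)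
  have he0 : (e : ℂ) ≠ 0 := fun h => hχ1 (by simpa [h] using congrFun he 1)
  have hf0 : (f : ℂ) ≠ 0 := fun h => hχ1 (by simpa [h] using congrFun hf 1)
  let L' := L.subgroupOf N
  let ek : L' ≃* L := Subgroup.subgroupOfEquivOfLe hLN
  let β' : L' → ℂ := β ∘ ek
  have hβ' : IsIrrCharacter L' β' := H13.isIrrCharacter_comp_equiv ek hβ
  obtain ⟨t, ht⟩ := H12.IsCharacter.classInner_nat
    (H12.IsCharacter.res (H12.isCharacter_of_isIrrCharacter hθ) L')
    (H12.isCharacter_of_isIrrCharacter hβ')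
  have hval : ∀ x : L', (e : ℂ) * θ x = (f : ℂ) * β' x := by
    intro x
    have h1 := congrFun he (x : N)
    have h2 := congrFun hf (ek x)
    simp only [Pi.smul_apply, smul_eq_mul] at h1 h2
    rw [← h1]
    exact h2
  have het : (e : ℂ) * t = f := by
    rw [← ht, ← H12.classInner_smul_left,
      show ((e : ℂ) • fun x : L' => θ x) = (f : ℂ) • β' from funext hval,
      H12.classInner_smul_left,
      show classInner β' β' = 1 from H12.classInner_irr_self (⟨β', hβ'⟩ : IrrCharacter _), mul_one]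
  have hres : ∀ x : L', θ x = (t : ℂ) * β' x := fun x => by
    apply mul_left_cancel₀ he0
    rw [hval, ← mul_assoc, het]
  have ht0 : t ≠ 0 := fun h => hf0 (by rw [← het, h, Nat.cast_zero, mul_zero])
  have hinv : ∀ g : G, H13.twist L g β = β := fun g => by
    have h1 := H13.twist_res L (H12.IsCharacter.isClassFunction hχc) g
    rw [hf] at h1
    exact smul_right_injective _ hf0 (by simpa [H13.twist, funext_iff] using h1)
  have hdvd := H15.ramification_dvd_index hθ hβ' (fun g => by
    funext x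
    exact congrFun (hinv g) (ek x)) t ht0 (funext hres)
  refine ⟨t, ?_, hdvd, ?_⟩
  · have h1 := hres 1
    have h2 : β' 1 = β 1 := congrArg β (map_one ek)
    rw [h2, H12.IsCharacter.apply_one_eq_degree (H12.isCharacter_of_isIrrCharacter hβ),
      OneMemClass.coe_one,
      H12.IsCharacter.apply_one_eq_degree (H12.isCharacter_of_isIrrCharacter hθ)] at h1
    exact_mod_cast h1
  · have h1 := H15.sum_normSq_irr' hθ
    have h2 := H15.sum_normSq_irr' hβ'
    have h3 : ∑ x : L', Complex.normSq (θ x) ≤ ∑ x : N, Complex.normSq (θ x) := by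
      rw [← H15.sum_normSq_mem L' θ]
      exact Finset.sum_le_univ_sum_of_nonneg fun _ => Complex.normSq_nonneg _
    simp only [hres, Complex.normSq_mul, Complex.normSq_natCast, ← Finset.mul_sum, h2, h1] at h3
    have h4 : t * t * Nat.card L' ≤ Nat.card N := by exact_mod_cast h3
    rw [← L'.card_mul_index, mul_comm] at h4
    rw [sq]
    exact Nat.le_of_mul_le_mul_left h4 Nat.card_pos

theorem card_inf_centralizer_dvd (L : Subgroup G) [L.Normal] (K : Subgroup (G ⧸ L)) (g : G) :
    Nat.card ↥(K.comap (QuotientGroup.mk' L) ⊓ Subgroup.centralizer {g}) ∣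
      Nat.card ↥(L ⊓ Subgroup.centralizer {g}) *
        Nat.card ↥(K ⊓ Subgroup.centralizer {(g : G ⧸ L)}) := by
  set A := K.comap (QuotientGroup.mk' L) ⊓ Subgroup.centralizer {g}
  let π : A →* G ⧸ L := (QuotientGroup.mk' L).comp A.subtype
  have hrange : π.range ≤ K ⊓ Subgroup.centralizer {(g : G ⧸ L)} := by
    rintro _ ⟨x, rfl⟩
    refine Subgroup.mem_inf.mpr ⟨x.2.1, Subgroup.mem_centralizer_singleton_iff.mpr ?_⟩
    have := Subgroup.mem_centralizer_singleton_iff.mp x.2.2
    show ((x : G) : G ⧸ L) * (g : G ⧸ L) = (g : G ⧸ L) * ((x : G) : G ⧸ L)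
    rw [← QuotientGroup.mk_mul, ← QuotientGroup.mk_mul, this]
  have hker : Nat.card π.ker ∣ Nat.card ↥(L ⊓ Subgroup.centralizer {g}) := by
    rw [← Subgroup.card_map_of_injective A.subtype_injective]
    refine Subgroup.card_dvd_of_le ?_
    rintro _ ⟨x, hx, rfl⟩
    exact Subgroup.mem_inf.mpr ⟨(QuotientGroup.eq_one_iff _).mp hx, x.2.2⟩
  rw [← π.ker.card_mul_index, Subgroup.index_ker]
  exact mul_dvd_mul hker (Subgroup.card_dvd_of_le hrange)

/-- The main inequality. -/
theorem exists_small_centralizer [Group.IsSolvable G] {χ : G → ℂ} (hχ : IsIrrCharacter G χ)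
    (hhom : Homog χ) {p : ℕ} [hp : Fact p.Prime] (H : Subgroup G)
    (hH : (Nat.card H).Coprime p) (hHi : ∃ a, H.index = p ^ a) (f : G → G) (hf : ActsAs p H f) :
    ∃ h ∈ H, vp p (Nat.card (Subgroup.centralizer {f h})) + vp p (H12.degree χ) ≤
      vp p (Nat.card G) := by
  classical
  let Claim : Subgroup G → Prop := fun N => ∀ (θ : N → ℂ) (e : ℕ), IsIrrCharacter N θ →
    (fun x : N => χ x) = (e : ℂ) • θ →
    ∑ h : H, vp p (Nat.card ↥(N ⊓ Subgroup.centralizer {f h})) + Nat.card H * vp p (H12.degree θ)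
      ≤ Nat.card H * vp p (Nat.card N)
  have hbot : Claim ⊥ := by
    intro θ e hθ he
    have h1 : ∀ h : H, Nat.card ↥((⊥ : Subgroup G) ⊓ Subgroup.centralizer {f h}) = 1 := fun h => by
      rw [bot_inf_eq, Subgroup.card_bot]
    have h2 : H12.degree θ = 1 := by
      have := H12.irr_degree_dvd_card (⟨θ, hθ⟩ : IrrCharacter (⊥ : Subgroup G))
      rwa [Subgroup.card_bot, Nat.dvd_one] at this
    simp [h1, h2, vp]
  have main : ∀ (m : ℕ) (L : Subgroup G), L.Normal → L.index ≤ m → Claim L → Claim ⊤ := by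
    intro m
    induction m with
    | zero =>
      intro L _ h
      exact absurd (Nat.le_zero.mp h) Subgroup.index_ne_zero_of_finite
    | succ m ih =>
      intro L hL hidx hclaim
      by_cases htop : L = ⊤
      · subst htop; exact hclaim
      haveI := hL
      haveI : Nontrivial (G ⧸ L) := QuotientGroup.nontrivial_iff.2 htop
      haveI : Group.IsSolvable (G ⧸ L) :=
        Group.isSolvable_of_surjective (f := QuotientGroup.mk' L) (QuotientGroup.mk'_surjective _)
      obtain ⟨K, r, hKn, hr, hK0, hpow, hab, hmin⟩ :=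
        H15.exists_minimal_normal_elementary (G := G ⧸ L)
      haveI := hKn
      set N := K.comap (QuotientGroup.mk' L) with hN
      haveI hNn : N.Normal := hKn.comap _
      have hLN : L ≤ N := QuotientGroup.le_comap_mk' L K
      have hcN : Nat.card N = Nat.card L * Nat.card K := H15.card_comap_mk L K
      have hK1 : 1 < Nat.card K := (Subgroup.one_lt_card_iff_ne_bot K).mpr hK0
      have hrel : L.relIndex N = Nat.card K := by
        have := (L.subgroupOf N).card_mul_index
        rw [Nat.card_congr (Subgroup.subgroupOfEquivOfLe hLN).toEquiv, hcN] at this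
        exact Nat.eq_of_mul_eq_mul_left Nat.card_pos this
      refine ih N hNn ?_ ?_
      · have h1 := L.relIndex_mul_index hLN
        rw [hrel] at h1
        have h2 : 2 * N.index ≤ L.index := h1 ▸ Nat.mul_le_mul_right _ hK1
        have h3 : 0 < N.index := Nat.pos_of_ne_zero Subgroup.index_ne_zero_of_finite
        omega
      intro θ e hθ he
      obtain ⟨β, b, hb⟩ := hhom L
      obtain ⟨t, htd, htK, ht2⟩ := ratio hχ hLN hθ β.2 he hb
      rw [hrel] at htK ht2
      have hold := hclaim β b β.2 hb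
      have hnew := chief_bound H hH hHi f hf L K hr hK0 hpow hab hmin t htK ht2
      have hsum : ∀ h : H, vp p (Nat.card ↥(N ⊓ Subgroup.centralizer {f h})) ≤
          vp p (Nat.card ↥(L ⊓ Subgroup.centralizer {f h})) +
            vp p (Nat.card ↥(K ⊓ Subgroup.centralizer {((f h : G) : G ⧸ L)})) := fun h => by
        rw [← vp_mul Nat.card_pos.ne' Nat.card_pos.ne']
        exact vp_le_of_dvd (mul_ne_zero Nat.card_pos.ne' Nat.card_pos.ne')
          (card_inf_centralizer_dvd L K (f h))
      have hsum' := Finset.sum_le_sum (s := (Finset.univ : Finset H)) fun h _ => hsum h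
      rw [Finset.sum_add_distrib] at hsum'
      have hdβ : H12.degree (β : L → ℂ) ≠ 0 := (H12.irr_degree_pos β).ne'
      have ht0 : t ≠ 0 := ne_zero_of_dvd_ne_zero Nat.card_pos.ne' htK
      rw [htd, vp_mul ht0 hdβ, hcN, vp_mul Nat.card_pos.ne' Nat.card_pos.ne', mul_add, mul_add]
      omega
  have hfinal := main _ ⊥ inferInstance le_rfl hbot
  obtain ⟨θ, e, he⟩ := hhom ⊤
  have hfin := hfinal θ e θ.2 he
  -- `χ` restricted to `⊤` is `χ`
  have hdeg : H12.degree χ = H12.degree (θ : (⊤ : Subgroup G) → ℂ) := by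
    let eT : (⊤ : Subgroup G) ≃* G := Subgroup.topEquiv
    have h1 : IsIrrCharacter (⊤ : Subgroup G) (χ ∘ eT) := H13.isIrrCharacter_comp_equiv eT hχ
    have h2 : (χ ∘ eT) = (e : ℂ) • (θ : (⊤ : Subgroup G) → ℂ) := he
    have h3 := H12.classInner_irr_self (⟨_, h1⟩ : IrrCharacter (⊤ : Subgroup G))
    simp only [h2, H12.classInner_smul_left, H12.classInner_smul_right,
      H12.classInner_irr_self, mul_one, map_natCast] at h3
    have he1 : e * e = 1 := by exact_mod_cast h3
    have he' : e = 1 := Nat.eq_one_of_mul_eq_one_right he1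
    have h4 := congrFun he (1 : (⊤ : Subgroup G))
    simp only [he', Nat.cast_one, one_smul, OneMemClass.coe_one] at h4
    rw [H12.IsCharacter.apply_one_eq_degree (H12.isCharacter_of_isIrrCharacter hχ),
      H12.IsCharacter.apply_one_eq_degree (H12.isCharacter_irr θ)] at h4
    exact_mod_cast h4
  by_contra hcon
  push Not at hcon
  rw [← hdeg, Subgroup.card_top] at hfin
  simp only [top_inf_eq] at hfin
  have hlt : ∑ _h : H, vp p (Nat.card G) < ∑ h : H,
      (vp p (Nat.card (Subgroup.centralizer {f h})) + vp p (H12.degree χ)) :=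
    Finset.sum_lt_sum_of_nonempty Finset.univ_nonempty fun h _ => hcon h h.2
  rw [Finset.sum_add_distrib, Finset.sum_const, Finset.sum_const, Finset.card_univ,
    smul_eq_mul, smul_eq_mul, ← Nat.card_eq_fintype_card] at hlt
  omega

theorem exists_hall_compl [Group.IsSolvable G] (p : ℕ) [hp : Fact p.Prime] :
    ∃ H : Subgroup G, (Nat.card H).Coprime p ∧ ∃ a, H.index = p ^ a := by
  obtain ⟨a, m, hm, hG⟩ :=
    Nat.exists_eq_pow_mul_and_not_dvd (Nat.card_pos (α := G)).ne' p hp.out.ne_one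
  have hco : m.Coprime p := ((hp.out.coprime_iff_not_dvd).2 hm).symm
  obtain ⟨H, hH⟩ := H1.hall_exists (G := G) m (p ^ a) (hG.trans (mul_comm _ _)) (hco.pow_right a)
  refine ⟨H, hH ▸ hco, a, ?_⟩
  have h1 := H.card_mul_index
  rw [hH, hG, mul_comm] at h1
  exact Nat.eq_of_mul_eq_mul_right
    (Nat.pos_of_ne_zero fun e => hm (by rw [e]; exact dvd_zero p)) h1

theorem vp_index_centralizer (p : ℕ) (g : G) :
    vp p ((Subgroup.centralizer ({g} : Set G)).index) +
      vp p (Nat.card (Subgroup.centralizer ({g} : Set G))) = vp p (Nat.card G) := by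
  rw [add_comm, ← vp_mul Nat.card_pos.ne' Subgroup.index_ne_zero_of_finite,
    Subgroup.card_mul_index]

theorem degree_vp_le_class [Group.IsSolvable G] (χ : IrrCharacter G)
    (hhom : Homog (χ : G → ℂ)) (p : ℕ) [Fact p.Prime] :
    ∃ g : G, (Cfsg.charDegree (χ : G → ℂ)).factorization p ≤
      ((Subgroup.centralizer ({g} : Set G)).index).factorization p := by
  obtain ⟨H, hH, hHi⟩ := exists_hall_compl (G := G) p
  obtain ⟨h, -, hh⟩ := exists_small_centralizer χ.2 hhom H hH hHi id (actsAs_id H)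
  refine ⟨h, ?_⟩
  have := vp_index_centralizer p h
  rw [H12.CoprimeCount.charDegree_eq_degree]
  simp only [vp, id] at hh this
  omega

end Char

end H10.Prim
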