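/-
Primitive characters of metanilpotent groups of order `p^a q^b`: the degree divides a class size.
-/
import Cfsg.Agent.H10.Prim.Main
import Cfsg.Agent.H1.Fitting

set_option autoImplicit false
set_option linter.unusedSectionVars false
set_option linter.style.haveILetI false

open Cfsg

namespace H10.Prim

universe u

/-- A nilpotent normal subgroup centralizes every minimal normal subgroup. -/
theorem minimal_commutes {Q : Type u} [Group Q] (F K : Subgroup Q) [F.Normal] [hK : K.Normal]
    [hF : Group.IsNilpotent F] (hK0 : K ≠ ⊥)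
    (hmin : ∀ B : Subgroup Q, B.Normal → B ≤ K → B = ⊥ ∨ B = K) : ⁅K, F⁆ = ⊥ := by
  refine (hmin _ inferInstance (Subgroup.commutator_le_left K F)).resolve_right fun e => hK0 ?_
  have hle : ∀ n, K ≤ F.lowerCentralSeries n := fun n => by
    induction n with
    | zero => rw [Subgroup.lowerCentralSeries_zero, ← e]; exact Subgroup.commutator_le_right K F
    | succ n ih =>
      rw [Subgroup.lowerCentralSeries_succ]
      exact e.ge.trans (Subgroup.commutator_mono ih le_rfl)
  obtain ⟨n, hn⟩ := (Subgroup.isNilpotent_iff_lowerCentralSeries F).mp hF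
  exact le_bot_iff.mp (hn ▸ hle n)

variable {G : Type u} [Group G] [Finite G]

/-- In a metanilpotent group the `p`-elements centralize the chief factors of `p`-power order. -/
theorem pelem_acts_trivially {p : ℕ} [Fact p.Prime] [(fittingSubgroup G).Normal]
    (hmeta : Group.IsNilpotent (G ⧸ fittingSubgroup G)) (L : Subgroup G) [L.Normal]
    (K : Subgroup (G ⧸ L)) [hK : K.Normal] (hKp : IsPGroup p K) (hK0 : K ≠ ⊥)
    (hmin : ∀ B : Subgroup (G ⧸ L), B.Normal → B ≤ K → B = ⊥ ∨ B = K)
    (hab : ∀ a ∈ K, ∀ b ∈ K, a * b = b * a) (P : Sylow p G) (x : G) (hx : x ∈ P) (a : G ⧸ L)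
    (ha : a ∈ K) : (x : G ⧸ L) * a * (x : G ⧸ L)⁻¹ = a := by
  letI : CommGroup K :=
    { (inferInstance : Group K) with mul_comm := fun a b => Subtype.ext (hab a a.2 b b.2) }
  haveI : Nontrivial K := (Subgroup.nontrivial_iff_ne_bot K).2 hK0
  let φ : G →* MulAut K := (MulAut.conjNormal (H := K)).comp (QuotientGroup.mk' L)
  have hφ : ∀ (g : G) (a : K), ((φ g a : K) : G ⧸ L) = (g : G ⧸ L) * a * (g : G ⧸ L)⁻¹ := fun g a =>
    MulAut.conjNormal_apply _ _
  have hirr : ∀ B : Subgroup K, (∀ g, ∀ b ∈ B, φ g b ∈ B) → B = ⊥ ∨ B = ⊤ := by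
    intro B hB
    have hn : (B.map K.subtype).Normal := ⟨by
      rintro _ ⟨b, hb, rfl⟩ q
      obtain ⟨g, rfl⟩ := QuotientGroup.mk_surjective q
      exact ⟨φ g b, hB g b hb, hφ g b⟩⟩
    rcases hmin _ hn (Subgroup.map_subtype_le B) with h | h
    · exact Or.inl ((Subgroup.map_eq_bot_iff_of_injective _ K.subtype_injective).mp h)
    · refine Or.inr (eq_top_iff.mpr fun b _ => ?_)
      obtain ⟨b', hb', e⟩ := h.ge b.2
      rwa [← Subtype.ext e]
  set F := fittingSubgroup G
  have hFker : F ≤ φ.ker := by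
    haveI := H1.isNilpotent_fittingSubgroup G
    haveI : (F.map (QuotientGroup.mk' L)).Normal :=
      Subgroup.Normal.map inferInstance _ (QuotientGroup.mk'_surjective L)
    haveI : Group.IsNilpotent (F.map (QuotientGroup.mk' L)) :=
      Group.nilpotent_of_surjective ((QuotientGroup.mk' L).subgroupMap F)
        ((QuotientGroup.mk' L).subgroupMap_surjective F)
    have hc := minimal_commutes (F.map (QuotientGroup.mk' L)) K hK0 hmin
    intro g hg
    rw [MonoidHom.mem_ker]
    refine MulEquiv.ext fun b => Subtype.ext ?_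
    rw [hφ, MulAut.one_apply]
    have h1 := Subgroup.commutator_mem_commutator b.2
      (Subgroup.mem_map_of_mem (QuotientGroup.mk' L) hg)
    rw [hc, Subgroup.mem_bot, commutatorElement_eq_one_iff_mul_comm] at h1
    exact mul_inv_eq_iff_eq_mul.mpr h1.symm
  let π : G ⧸ F →* G ⧸ φ.ker := QuotientGroup.map F φ.ker (MonoidHom.id G) hFker
  have hπ : Function.Surjective π := by
    intro q
    obtain ⟨g, rfl⟩ := QuotientGroup.mk_surjective q
    exact ⟨(g : G ⧸ F), rfl⟩
  haveI : Group.IsNilpotent (G ⧸ φ.ker) := Group.nilpotent_of_surjective π hπ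
  let Pb : Sylow p (G ⧸ φ.ker) := P.mapSurjective (QuotientGroup.mk'_surjective φ.ker)
  haveI : (Pb : Subgroup (G ⧸ φ.ker)).Normal :=
    Sylow.normal_of_normalizerCondition Group.normalizerCondition_of_isNilpotent Pb
  set R := (Pb : Subgroup (G ⧸ φ.ker)).comap (QuotientGroup.mk' φ.ker)
  have hR : IsPGroup p (R.map φ) := by
    rintro ⟨_, g, hg, rfl⟩
    obtain ⟨i, hi⟩ := Pb.isPGroup' ⟨_, hg⟩
    refine ⟨i, Subtype.ext ?_⟩
    have h1 : g ^ p ^ i ∈ φ.ker := by
      rw [← QuotientGroup.eq_one_iff, QuotientGroup.mk_pow]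
      exact congrArg Subtype.val hi
    simpa [map_pow] using (MonoidHom.mem_ker.mp h1)
  have htriv := normal_pgroup_trivial hKp φ hirr R hR
  have : φ x ∈ R.map φ := Subgroup.mem_map_of_mem φ (Subgroup.mem_map_of_mem _ hx)
  rw [htriv, Subgroup.mem_bot] at this
  have h1 := hφ x ⟨a, ha⟩
  rw [this, MulAut.one_apply] at h1
  exact h1.symm

/-- A `p`-factor version: some `p'`-element works against all elements of a Sylow `p`-subgroup. -/
theorem exists_uniform {G : Type u} [Group G] [Fintype G] [Group.IsSolvable G] {p : ℕ} [Fact p.Prime]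
    [(fittingSubgroup G).Normal] (hmeta : Group.IsNilpotent (G ⧸ fittingSubgroup G))
    {χ : G → ℂ} (hχ : IsIrrCharacter G χ) (hhom : Homog χ) (P : Sylow p G) (H : Subgroup G)
    (hH : (Nat.card H).Coprime p) (hHi : ∃ a, H.index = p ^ a) :
    ∃ y ∈ H, ∀ x ∈ (P : Subgroup G),
      vp p (Nat.card (Subgroup.centralizer {x * y})) + vp p (H12.degree χ) ≤ vp p (Nat.card G) := by
  have hmax : ∀ h : G, ∃ x₀ : (P : Subgroup G), ∀ x : (P : Subgroup G),
      vp p (Nat.card (Subgroup.centralizer {(x : G) * h})) ≤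
        vp p (Nat.card (Subgroup.centralizer {(x₀ : G) * h})) := fun h =>
    Finite.exists_max (fun x : (P : Subgroup G) =>
      vp p (Nat.card (Subgroup.centralizer {(x : G) * h})))
  choose x₀ hx₀ using hmax
  have hf : ActsAs p H (fun h => (x₀ h : G) * h) := by
    intro L _ K hK hKp hK0 hmin hab _ h _ a ha
    haveI := hK
    have h1 := pelem_acts_trivially hmeta L K hKp hK0 hmin hab P (x₀ h) (x₀ h).2
      ((h : G ⧸ L) * a * (h : G ⧸ L)⁻¹) (hK.conj_mem a ha _)
    rw [QuotientGroup.mk_mul]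
    conv_rhs => rw [← h1]
    group
  obtain ⟨y, hy, hb⟩ := exists_small_centralizer hχ hhom H hH hHi _ hf
  exact ⟨y, hy, fun x hx => le_trans (Nat.add_le_add_right (hx₀ y ⟨x, hx⟩) _) hb⟩

theorem card_centralizer_conj (g c : G) :
    Nat.card (Subgroup.centralizer {c * g * c⁻¹}) = Nat.card (Subgroup.centralizer {g}) := by
  refine Nat.card_congr
    { toFun := fun z => ⟨c⁻¹ * z * c, ?_⟩
      invFun := fun z => ⟨c * z * c⁻¹, ?_⟩
      left_inv := fun z => Subtype.ext (by simp [mul_assoc])
      right_inv := fun z => Subtype.ext (by simp [mul_assoc]) }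
  · have h := Subgroup.mem_centralizer_singleton_iff.mp z.2
    rw [Subgroup.mem_centralizer_singleton_iff]
    calc c⁻¹ * z * c * g = c⁻¹ * (z * (c * g * c⁻¹)) * c := by group
      _ = c⁻¹ * ((c * g * c⁻¹) * z) * c := by rw [h]
      _ = _ := by group
  · have h := Subgroup.mem_centralizer_singleton_iff.mp z.2
    rw [Subgroup.mem_centralizer_singleton_iff]
    calc c * z * c⁻¹ * (c * g * c⁻¹) = c * (z * g) * c⁻¹ := by group
      _ = c * (g * z) * c⁻¹ := by rw [h]
      _ = _ := by group

theorem degree_dvd_class {G : Type u} [Group G] [Fintype G] [Group.IsSolvable G]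
    [(fittingSubgroup G).Normal] (hmeta : Group.IsNilpotent (G ⧸ fittingSubgroup G))
    (h2 : (Nat.card G).primeFactors.card = 2) (χ : IrrCharacter G) (hhom : Homog (χ : G → ℂ)) :
    ∃ g : G, Cfsg.charDegree (χ : G → ℂ) ∣ (Subgroup.centralizer ({g} : Set G)).index := by
  obtain ⟨p, q, hpq, hpf⟩ := Finset.card_eq_two.mp h2
  have hp : p.Prime := Nat.prime_of_mem_primeFactors (by rw [hpf]; simp : p ∈ (Nat.card G).primeFactors)
  have hq : q.Prime := Nat.prime_of_mem_primeFactors (by rw [hpf]; simp : q ∈ (Nat.card G).primeFactors)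
  haveI := Fact.mk hp
  haveI := Fact.mk hq
  let P : Sylow p G := default
  let Q : Sylow q G := default
  have only : ∀ r : ℕ, r ≠ p → r ≠ q → (Nat.card G).factorization r = 0 := by
    intro r hr1 hr2
    rw [← Finsupp.notMem_support_iff, Nat.support_factorization, hpf]
    simp [hr1, hr2]
  -- each Sylow subgroup is a complement to the other
  have hindex : ∀ (r s : ℕ) [Fact r.Prime] [Fact s.Prime], r ≠ s →
      (∀ t : ℕ, t ≠ r → t ≠ s → (Nat.card G).factorization t = 0) → ∀ R : Sylow r G,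
      (Nat.card R).Coprime s ∧ ∃ a, (R : Subgroup G).index = s ^ a := by
    intro r s hr hs hrs hon R
    refine ⟨?_, (Nat.card G).factorization s, ?_⟩
    · rw [Sylow.card_eq_multiplicity]
      exact ((Nat.coprime_primes hr.out hs.out).2 hrs).pow_left _
    have h1 := (R : Subgroup G).card_mul_index
    rw [Sylow.card_eq_multiplicity] at h1
    refine Nat.eq_of_mul_eq_mul_left (pow_pos hr.out.pos ((Nat.card G).factorization r)) ?_
    rw [h1]
    refine Nat.eq_of_factorization_eq Nat.card_pos.ne'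
      (mul_ne_zero (pow_ne_zero _ hr.out.ne_zero) (pow_ne_zero _ hs.out.ne_zero)) fun t => ?_
    rw [Nat.factorization_mul (pow_ne_zero _ hr.out.ne_zero) (pow_ne_zero _ hs.out.ne_zero),
      Finsupp.add_apply, hr.out.factorization_pow, hs.out.factorization_pow]
    rcases eq_or_ne t r with rfl | htr
    · simp [hrs]
    rcases eq_or_ne t s with rfl | hts
    · simp [hrs.symm]
    have := hon t htr hts
    rw [Nat.card_eq_fintype_card] at this
    simp [hts, htr, this]
  obtain ⟨hQc, hQi⟩ := hindex q p hpq.symm (fun t h1 h2 => only t h2 h1) Q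
  obtain ⟨hPc, hPi⟩ := hindex p q hpq only P
  obtain ⟨y, hy, hy'⟩ := exists_uniform hmeta χ.2 hhom P Q hQc hQi
  obtain ⟨x, hx, hx'⟩ := exists_uniform hmeta χ.2 hhom Q P hPc hPi
  refine ⟨x * y, ?_⟩
  have hp' := hy' x hx
  have hq' := hx' y hy
  rw [show y * x = y * (x * y) * y⁻¹ by group, card_centralizer_conj] at hq'
  have hd0 : H12.degree (χ : G → ℂ) ≠ 0 := (H12.irr_degree_pos χ).ne'
  rw [H12.CoprimeCount.charDegree_eq_degree,
    ← Nat.factorization_le_iff_dvd hd0 Subgroup.index_ne_zero_of_finite]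
  intro r
  have hidx := vp_index_centralizer r (x * y)
  simp only [vp] at hidx hp' hq'
  rcases eq_or_ne r p with rfl | hrp
  · omega
  rcases eq_or_ne r q with rfl | hrq
  · omega
  have h1 := vp_le_of_dvd (p := r) Nat.card_pos.ne' (H12.irr_degree_dvd_card χ)
  simp only [vp, only r hrp hrq] at h1
  omega

end H10.Prim
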